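import Groth.Agent.Lib.SmoothLift15.Geometry
import Groth.Prelude.Def_MoreMor
import Mathlib.AlgebraicGeometry.Morphisms.Smooth

/-!
Consequences of the gluing of local lifts: lifting into schemes locally of finite presentation along
square-zero thickenings of affine schemes; smooth morphisms are formally smooth.
-/

set_option autoImplicit false

universe u

open AlgebraicGeometry CategoryTheory CategoryTheory.Limits TopologicalSpace

namespace Groth.Agent.SmoothLift15

theorem exists_fromSpec_fac {X : Scheme.{u}} {U : X.Opens} (hU : IsAffineOpen U) {R : Type u} [CommRing R]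
    (φ : Spec (.of R) ⟶ X) (h : Set.range φ ⊆ U) :
    ∃ χ : Γ(X, U) ⟶ .of R, Spec.map χ ≫ hU.fromSpec = φ := by
  refine ⟨Spec.preimage (IsOpenImmersion.lift hU.fromSpec φ (by rwa [hU.range_fromSpec])), ?_⟩
  rw [Spec.map_preimage, IsOpenImmersion.lift_fac]

/-- A morphism that is formally smooth on suitable affine pieces has lifts locally on the thickening. -/
theorem exists_local_lift {X S : Scheme.{u}} (f : X ⟶ S)
    (hfs : ∀ x : X, ∃ (U : X.Opens) (V : S.Opens) (_ : IsAffineOpen U) (_ : IsAffineOpen V) (e : U ≤ f ⁻¹ᵁ V),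
      x ∈ U ∧ (f.appLE V U e).hom.FormallySmooth)
    {A : Type u} [CommRing A] (I : Ideal A) (hI : I ^ 2 = ⊥)
    (a₀ : Spec (.of (A ⧸ I)) ⟶ X) (a : Spec (.of A) ⟶ S)
    (w : a₀ ≫ f = Spec.map (CommRingCat.ofHom (Ideal.Quotient.mk I)) ≫ a) (m : Ideal A) (hm : m.IsMaximal) :
    ∃ g ∉ m, ∃ b : Spec (.of (Localization.Away g)) ⟶ X,
      b ≫ f = Spec.map (CommRingCat.ofHom (algebraMap A (Localization.Away g))) ≫ a ∧
      Spec.map (CommRingCat.ofHom (Ideal.Quotient.mk (I.map (algebraMap A (Localization.Away g))))) ≫ b =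
        Spec.map (CommRingCat.ofHom (Ideal.quotientMap _ (algebraMap A (Localization.Away g))
          Ideal.le_comap_map)) ≫ a₀ := by
  obtain ⟨t, ht⟩ := (surjective_specMap_mk I hI).surj (⟨m, hm.isPrime⟩ : PrimeSpectrum A)
  obtain ⟨U, V, hU, hV, e, hxU, hfs⟩ := hfs (a₀ t)
  set i := Spec.map (CommRingCat.ofHom (Ideal.Quotient.mk I))
  obtain ⟨_, ⟨g₁, rfl⟩, ht1, hg1⟩ := PrimeSpectrum.isTopologicalBasis_basic_opens.exists_subset_of_mem_open
    (show t ∈ (a₀ ⁻¹ᵁ U).1 from hxU) (a₀ ⁻¹ᵁ U).2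
  obtain ⟨g₁, rfl⟩ := Ideal.Quotient.mk_surjective g₁
  obtain ⟨_, ⟨g₂, rfl⟩, ht2, hg2⟩ := PrimeSpectrum.isTopologicalBasis_basic_opens.exists_subset_of_mem_open
    (show (⟨m, hm.isPrime⟩ : PrimeSpectrum A) ∈ (a ⁻¹ᵁ V).1 by
      refine ht ▸ ?_
      change a (i t) ∈ V
      rw [← Scheme.Hom.comp_apply, ← w, Scheme.Hom.comp_apply]
      exact e hxU) (a ⁻¹ᵁ V).2
  have hg₁m : g₁ ∉ m := by
    intro hg
    have h1 : (PrimeSpectrum.comap (Ideal.Quotient.mk I) t).asIdeal = m := congrArg PrimeSpectrum.asIdeal ht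
    exact ht1 (h1 ▸ hg : g₁ ∈ (PrimeSpectrum.comap (Ideal.Quotient.mk I) t).asIdeal)
  refine ⟨g₁ * g₂, fun h => (hm.isPrime.mem_or_mem h).elim hg₁m ht2, ?_⟩
  set L := Localization.Away (g₁ * g₂)
  set q := CommRingCat.ofHom (Ideal.Quotient.mk (I.map (algebraMap A L)))
  set jr := CommRingCat.ofHom (Ideal.quotientMap (I.map (algebraMap A L)) (algebraMap A L) Ideal.le_comap_map)
  have hrange : ∀ z, Spec.map (CommRingCat.ofHom (algebraMap A L)) z ∈ PrimeSpectrum.basicOpen (g₁ * g₂) := by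
    intro z
    have hz : PrimeSpectrum.comap (algebraMap A L) z ∈ Set.range (PrimeSpectrum.comap (algebraMap A L)) := ⟨z, rfl⟩
    rw [PrimeSpectrum.localization_away_comap_range L (g₁ * g₂)] at hz
    exact hz
  obtain ⟨σ, hσ⟩ := exists_fromSpec_fac hU (Spec.map jr ≫ a₀) (by
    rintro _ ⟨z, rfl⟩
    refine hg1 ?_
    change g₁ ∉ ((i (Spec.map jr z)) : PrimeSpectrum A).asIdeal
    rw [show i (Spec.map jr z) = Spec.map (CommRingCat.ofHom (algebraMap A L)) (Spec.map q z) by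
      rw [← Scheme.Hom.comp_apply, ← Scheme.Hom.comp_apply, ← Spec.map_comp, ← Spec.map_comp]
      rfl]
    exact fun h => hrange _ (Ideal.mul_mem_right _ _ h))
  obtain ⟨ρ, hρ⟩ := exists_fromSpec_fac hV (Spec.map (CommRingCat.ofHom (algebraMap A L)) ≫ a) (by
    rintro _ ⟨z, rfl⟩
    exact hg2 (fun h => hrange z (Ideal.mul_mem_left _ _ h)))
  have hsq : (f.appLE V U e) ≫ σ = ρ ≫ q := by
    refine Spec.map_injective ((cancel_mono hV.fromSpec).1 ?_)
    rw [Spec.map_comp, Spec.map_comp, Category.assoc, hV.SpecMap_appLE_fromSpec f hU e, ← Category.assoc, hσ,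
      Category.assoc, w, Category.assoc, hρ, ← Category.assoc, ← Spec.map_comp, ← Category.assoc,
      ← Spec.map_comp]
    rfl
  letI := (f.appLE V U e).hom.toAlgebra
  letI := ρ.hom.toAlgebra
  haveI : Algebra.FormallySmooth Γ(S, V) Γ(X, U) := hfs
  have hL : (I.map (algebraMap A L)) ^ 2 = ⊥ := by rw [← Ideal.map_pow, hI, Ideal.map_bot]
  obtain ⟨ℓ, hℓ⟩ := Algebra.FormallySmooth.comp_surjective Γ(S, V) Γ(X, U) _ hL
    { σ.hom with commutes' := fun r => ConcreteCategory.congr_hom hsq r }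
  refine ⟨Spec.map (CommRingCat.ofHom ℓ.toRingHom) ≫ hU.fromSpec, ?_, ?_⟩
  · rw [Category.assoc, ← hV.SpecMap_appLE_fromSpec f hU e, ← Category.assoc, ← Spec.map_comp, ← hρ]
    congr 2
    exact CommRingCat.hom_ext (RingHom.ext ℓ.commutes)
  · rw [← Category.assoc, ← Spec.map_comp, ← hσ]
    congr 2
    exact CommRingCat.hom_ext (RingHom.ext fun x => DFunLike.congr_fun hℓ x)

/-- Smooth morphisms are formally smooth. -/
theorem isFormallySmoothHom_of_smooth {X S : Scheme.{u}} (f : X ⟶ S) [Smooth f] :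
    MoreMor.IsFormallySmoothHom f := by
  intro A _ I hI a₀ a w
  haveI : LocallyOfFinitePresentation f := inferInstance
  obtain ⟨b', h1, h2⟩ := exists_lift_spec f I hI a₀ a w.symm (exists_local_lift f (fun x => by
    obtain ⟨V, hV, U, hU, hx, e, -⟩ := Smooth.exists_isStandardSmooth f x
    refine ⟨U, V, hU, hV, e, hx, ?_⟩
    have h := f.smooth_appLE hV hU e
    exact @Algebra.Smooth.formallySmooth _ _ _ _ (f.appLE V U e).hom.toAlgebra h) I hI a₀ a w.symm)
  exact ⟨b', h2, h1⟩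

/-- Formally smooth morphisms are formally smooth on affine pieces. -/
theorem formallySmooth_appLE {X S : Scheme.{u}} (f : X ⟶ S) (hf : MoreMor.IsFormallySmoothHom f)
    {U : X.Opens} {V : S.Opens} (hU : IsAffineOpen U) (hV : IsAffineOpen V) (e : U ≤ f ⁻¹ᵁ V) :
    (f.appLE V U e).hom.FormallySmooth := by
  letI := (f.appLE V U e).hom.toAlgebra
  change Algebra.FormallySmooth Γ(S, V) Γ(X, U)
  refine Algebra.FormallySmooth.of_comp_surjective fun B _ _ I hI g => ?_
  have hsq : f.appLE V U e ≫ CommRingCat.ofHom g.toRingHom =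
      CommRingCat.ofHom (algebraMap Γ(S, V) B) ≫ CommRingCat.ofHom (Ideal.Quotient.mk I) :=
    CommRingCat.hom_ext (RingHom.ext g.commutes)
  obtain ⟨l, hl1, hl2⟩ := hf B I hI (Spec.map (CommRingCat.ofHom g.toRingHom) ≫ hU.fromSpec)
    (Spec.map (CommRingCat.ofHom (algebraMap Γ(S, V) B)) ≫ hV.fromSpec) (by
      rw [Category.assoc, ← hV.SpecMap_appLE_fromSpec f hU e, ← Category.assoc, ← Spec.map_comp, ← Category.assoc,
        ← Spec.map_comp, hsq])
  obtain ⟨χ, hχ⟩ := exists_fromSpec_fac hU l (by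
    rintro _ ⟨z, rfl⟩
    obtain ⟨t, rfl⟩ := (surjective_specMap_mk I hI).surj z
    rw [← Scheme.Hom.comp_apply, hl1, Scheme.Hom.comp_apply, ← hU.range_fromSpec]
    exact Set.mem_range_self _)
  have hcomm : f.appLE V U e ≫ χ = CommRingCat.ofHom (algebraMap Γ(S, V) B) := by
    refine Spec.map_injective ((cancel_mono hV.fromSpec).1 ?_)
    rw [Spec.map_comp, Category.assoc, hV.SpecMap_appLE_fromSpec f hU e, ← Category.assoc, hχ, hl2]
  refine ⟨{ χ.hom with commutes' := fun r => ConcreteCategory.congr_hom hcomm r }, AlgHom.ext fun x => ?_⟩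
  have h2 : χ ≫ CommRingCat.ofHom (Ideal.Quotient.mk I) = CommRingCat.ofHom g.toRingHom := by
    refine Spec.map_injective ((cancel_mono hU.fromSpec).1 ?_)
    rw [Spec.map_comp, Category.assoc, hχ, hl1]
  exact ConcreteCategory.congr_hom h2 x

/-- Smooth iff locally of finite presentation and formally smooth. -/
theorem smooth_iff {X S : Scheme.{u}} (f : X ⟶ S) :
    Smooth f ↔ LocallyOfFinitePresentation f ∧ MoreMor.IsFormallySmoothHom f := by
  refine ⟨fun _ => ⟨inferInstance, isFormallySmoothHom_of_smooth f⟩, fun ⟨_, hf⟩ => ⟨fun {V} hV {U} hU e => ?_⟩⟩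
  letI := (f.appLE V U e).hom.toAlgebra
  exact ⟨formallySmooth_appLE f hf hU hV e, f.finitePresentation_appLE hV hU e⟩

/-- Local lifts along a square-zero thickening with affine source glue. -/
theorem exists_lift {S X T T₀ : Scheme.{u}} (f : X ⟶ S) [LocallyOfFinitePresentation f]
    (i : T₀ ⟶ T) [IsClosedImmersion i] [IsAffine T₀]
    (hsq : ∀ (U : T.affineOpens) (x y : Γ(T, U.1)),
      x ∈ RingHom.ker (i.app U.1).hom → y ∈ RingHom.ker (i.app U.1).hom → x * y = 0)
    (a : T ⟶ S) (a₀ : T₀ ⟶ X) (hsqr : a₀ ≫ f = i ≫ a)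
    (ι : Type u) (U : ι → T.Opens) (hU : iSup U = ⊤) (b : ∀ j, (↑(U j) : Scheme.{u}) ⟶ X)
    (hb₁ : ∀ j, b j ≫ f = (U j).ι ≫ a)
    (hb₂ : ∀ j, (i ∣_ U j) ≫ b j = (i ⁻¹ᵁ U j).ι ≫ a₀) :
    ∃ b' : T ⟶ X, b' ≫ f = a ∧ i ≫ b' = a₀ := by
  haveI : Surjective i := by
    have h2 : i.ker ^ 2 = ⊥ := by
      refine Scheme.IdealSheafData.ext (funext fun V => ?_)
      rw [Scheme.IdealSheafData.ideal_pow, Pi.pow_apply, i.ker_apply, Scheme.IdealSheafData.ideal_bot,
        Pi.bot_apply, pow_two, eq_bot_iff]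
      exact Ideal.mul_le.2 fun x hx y hy => (Ideal.mem_bot).2 (hsq V x y hx hy)
    have h3 : i.ker.support = ⊤ := by
      rw [← Scheme.IdealSheafData.support_pow i.ker 2 two_ne_zero, h2, Scheme.IdealSheafData.support_bot]
    refine ⟨fun z => ?_⟩
    have : z ∈ (i.ker.support : Set T) := by rw [h3]; trivial
    rw [Scheme.Hom.support_ker] at this
    exact (i.isClosedEmbedding.isClosed_range.closure_eq ▸ this : z ∈ Set.range i)
  haveI : IsAffine T := ThickAff3.isAffine_of_sq_zero i (ThickAff3.mul_eq_zero_of_cover i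
    (fun V : T.affineOpens => (V.1 : T.Opens)) (fun V => V.2) (iSup_affineOpens_eq_top T)
    fun V x y hx hy => hsq V x y hx hy)
  let A := Γ(T, ⊤)
  let I := RingHom.ker i.appTop.hom
  have hI : I ^ 2 = ⊥ := by
    rw [pow_two, eq_bot_iff]
    exact Ideal.mul_le.2 fun x hx y hy => (Ideal.mem_bot).2 (hsq ⟨⊤, isAffineOpen_top T⟩ x y hx hy)
  have his : Function.Surjective i.appTop.hom := i.app_surjective ⊤ (isAffineOpen_top T)
  let ε : CommRingCat.of (A ⧸ I) ≅ Γ(T₀, ⊤) := (RingHom.quotientKerEquivOfSurjective his).toCommRingCatIso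
  have hε : CommRingCat.ofHom (Ideal.Quotient.mk I) ≫ ε.hom = i.appTop :=
    CommRingCat.hom_ext (RingHom.ext fun x => rfl)
  -- the transported square
  let e₀ : T₀ ⟶ Spec (.of (A ⧸ I)) := T₀.isoSpec.hom ≫ Spec.map ε.hom
  have he₀ : e₀ ≫ Spec.map (CommRingCat.ofHom (Ideal.Quotient.mk I)) = i ≫ T.isoSpec.hom := by
    rw [Category.assoc, ← Spec.map_comp, hε, Scheme.isoSpec_hom_naturality]
  let e₀' : Spec (.of (A ⧸ I)) ⟶ T₀ := Spec.map ε.inv ≫ T₀.isoSpec.inv
  have he₀' : Spec.map (CommRingCat.ofHom (Ideal.Quotient.mk I)) ≫ T.isoSpec.inv = e₀' ≫ i := by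
    rw [Category.assoc, ← Scheme.isoSpec_inv_naturality, ← Category.assoc, ← Spec.map_comp, ← hε,
      Category.assoc, Iso.hom_inv_id, Category.comp_id]
  obtain ⟨b', h1, h2⟩ := exists_lift_spec f I hI (e₀' ≫ a₀) (T.isoSpec.inv ≫ a)
    (by rw [Category.assoc, hsqr, reassoc_of% he₀']) (fun m hm => by
    let x : T := T.isoSpec.inv ⟨m, hm.isPrime⟩
    obtain ⟨j, hj⟩ := Opens.mem_iSup.1 (hU.ge (Opens.mem_top x))
    obtain ⟨_, ⟨g, rfl⟩, hgm, hg⟩ := PrimeSpectrum.isTopologicalBasis_basic_opens.exists_subset_of_mem_open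
      (show (⟨m, hm.isPrime⟩ : PrimeSpectrum A) ∈ (T.isoSpec.inv ⁻¹ᵁ U j).1 from hj) (T.isoSpec.inv ⁻¹ᵁ U j).2
    refine ⟨g, hgm, ?_⟩
    let p := Spec.map (CommRingCat.ofHom (algebraMap A (Localization.Away g))) ≫ T.isoSpec.inv
    have hp : Set.range p ⊆ Set.range (U j).ι := by
      rw [Scheme.Opens.range_ι]
      rintro _ ⟨z, rfl⟩
      have hz : PrimeSpectrum.comap (algebraMap A (Localization.Away g)) z ∈
          Set.range (PrimeSpectrum.comap (algebraMap A (Localization.Away g))) := ⟨z, rfl⟩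
      rw [PrimeSpectrum.localization_away_comap_range (Localization.Away g) g] at hz
      exact hg hz
    refine ⟨IsOpenImmersion.lift (U j).ι p hp ≫ b j, ?_, ?_⟩
    · rw [Category.assoc, hb₁, ← Category.assoc, IsOpenImmersion.lift_fac, Category.assoc]
    · set q := Spec.map (CommRingCat.ofHom (Ideal.Quotient.mk (I.map (algebraMap A (Localization.Away g)))))
      set jr := Spec.map (CommRingCat.ofHom (Ideal.quotientMap (I.map (algebraMap A (Localization.Away g)))
        (algebraMap A (Localization.Away g)) Ideal.le_comap_map))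
      have hqp : q ≫ p = (jr ≫ e₀') ≫ i := by
        rw [Category.assoc, ← he₀']
        simp only [p, q, jr, ← Category.assoc, ← Spec.map_comp]
        rfl
      have hr : Set.range (jr ≫ e₀') ⊆ Set.range (i ⁻¹ᵁ U j).ι := by
        rw [Scheme.Opens.range_ι]
        rintro _ ⟨z, rfl⟩
        change i ((jr ≫ e₀') z) ∈ U j
        rw [← Scheme.Hom.comp_apply, ← hqp, Scheme.Hom.comp_apply]
        obtain ⟨w, hw⟩ := hp (Set.mem_range_self (q z))
        rw [← hw]
        exact w.2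
      have hfac : q ≫ IsOpenImmersion.lift (U j).ι p hp = IsOpenImmersion.lift (i ⁻¹ᵁ U j).ι (jr ≫ e₀') hr ≫ (i ∣_ U j) := by
        rw [← cancel_mono (U j).ι, Category.assoc, IsOpenImmersion.lift_fac, Category.assoc, morphismRestrict_ι,
          IsOpenImmersion.lift_fac_assoc, hqp]
      rw [← Category.assoc, hfac, Category.assoc, hb₂, IsOpenImmersion.lift_fac_assoc, Category.assoc])
  refine ⟨T.isoSpec.hom ≫ b', by rw [Category.assoc, h1, Iso.hom_inv_id_assoc], ?_⟩
  rw [← Category.assoc, ← he₀, Category.assoc, h2]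
  simp [e₀, e₀', ← Spec.map_comp_assoc]

end Groth.Agent.SmoothLift15
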