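import Mathlib.RingTheory.RingHom.FinitePresentation
import Mathlib.RingTheory.Ideal.Over
import Mathlib.RingTheory.Localization.Ideal

/-!
First order neighbourhoods of sections of finitely presented algebras, modulo the ideal of the base thickening,
are finitely presented.
-/

set_option autoImplicit false

universe u

open scoped TensorProduct

namespace Groth.Agent.SmoothLift15

variable {A : Type u} [CommRing A] (I : Ideal A)

/-- If `C` is finitely presented over `A`, `φ : C → R'` is surjective onto a finitely presented `A ⧸ I`-algebra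
with kernel `K`, and `Φ : C → E` is surjective with kernel `I C + K ^ 2`, then `E` is finitely presented over `A ⧸ I`. -/
theorem finitePresentation_firstOrder {C R' E : Type u} [CommRing C] [CommRing R'] [CommRing E]
    [Algebra A C] [Algebra.FinitePresentation A C]
    [Algebra A R'] [Algebra (A ⧸ I) R'] [IsScalarTower A (A ⧸ I) R'] [Algebra.FinitePresentation (A ⧸ I) R']
    [Algebra A E] [Algebra (A ⧸ I) E] [IsScalarTower A (A ⧸ I) E]
    (φ : C →ₐ[A] R') (hφ : Function.Surjective φ) (Φ : C →ₐ[A] E) (hΦ : Function.Surjective Φ)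
    (hker : RingHom.ker Φ = I.map (algebraMap A C) ⊔ RingHom.ker φ ^ 2) :
    Algebra.FinitePresentation (A ⧸ I) E := by
  have hsurj : Function.Surjective (Algebra.TensorProduct.includeRight : C →ₐ[A] (A ⧸ I) ⊗[A] C) := by
    intro z
    induction z using TensorProduct.induction_on with
    | zero => exact ⟨0, map_zero _⟩
    | tmul r c =>
      obtain ⟨a, rfl⟩ := Ideal.Quotient.mk_surjective r
      refine ⟨a • c, ?_⟩
      rw [Algebra.TensorProduct.includeRight_apply, TensorProduct.tmul_smul, TensorProduct.smul_tmul',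
        ← Ideal.Quotient.algebraMap_eq, Algebra.algebraMap_eq_smul_one]
    | add x y hx hy =>
      obtain ⟨a, rfl⟩ := hx
      obtain ⟨b, rfl⟩ := hy
      exact ⟨a + b, map_add _ _ _⟩
  let inc : C →ₐ[A] (A ⧸ I) ⊗[A] C := Algebra.TensorProduct.includeRight
  have hI : I.map (algebraMap A C) ≤ RingHom.ker inc := by
    rw [Ideal.map_le_iff_le_comap]
    intro i hi
    rw [Ideal.mem_comap, RingHom.mem_ker, AlgHom.commutes, IsScalarTower.algebraMap_apply A (A ⧸ I),
      Ideal.Quotient.algebraMap_eq, Ideal.Quotient.eq_zero_iff_mem.2 hi, map_zero]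
  let φ' : (A ⧸ I) ⊗[A] C →ₐ[A ⧸ I] R' :=
    Algebra.TensorProduct.lift (Algebra.ofId _ _) φ (fun _ _ => .all _ _)
  let Φ' : (A ⧸ I) ⊗[A] C →ₐ[A ⧸ I] E :=
    Algebra.TensorProduct.lift (Algebra.ofId _ _) Φ (fun _ _ => .all _ _)
  have hφ' : ∀ c, φ' (inc c) = φ c := fun c => by simp [φ', inc]
  have hΦ' : ∀ c, Φ' (inc c) = Φ c := fun c => by simp [Φ', inc]
  have hK : (RingHom.ker φ).map inc = RingHom.ker φ' := by
    refine le_antisymm (Ideal.map_le_iff_le_comap.2 fun c hc => ?_) fun z hz => ?_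
    · rw [Ideal.mem_comap, RingHom.mem_ker, hφ']
      exact hc
    · obtain ⟨c, rfl⟩ := hsurj z
      refine Ideal.mem_map_of_mem _ ?_
      rw [RingHom.mem_ker, ← hφ']
      exact hz
  have hfg : ((RingHom.ker φ).map inc).FG := by
    rw [hK]
    exact Algebra.FinitePresentation.ker_fG_of_surjective φ' fun r => by
      obtain ⟨c, rfl⟩ := hφ r
      exact ⟨inc c, hφ' c⟩
  refine Algebra.FinitePresentation.of_surjective (f := Φ') (fun r => ?_) ?_
  · obtain ⟨c, rfl⟩ := hΦ r
    exact ⟨inc c, hΦ' c⟩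
  · suffices h : RingHom.ker Φ'.toRingHom = ((RingHom.ker φ).map inc) ^ 2 from h ▸ hfg.pow
    rw [← Ideal.map_pow]
    refine le_antisymm (fun z hz => ?_) (Ideal.map_le_iff_le_comap.2 fun c hc => ?_)
    · obtain ⟨c, rfl⟩ := hsurj z
      have h1 : c ∈ RingHom.ker Φ := by rw [RingHom.mem_ker, ← hΦ']; exact hz
      rw [hker] at h1
      obtain ⟨x, hx, y, hy, rfl⟩ := Submodule.mem_sup.1 h1
      rw [map_add, show (Algebra.TensorProduct.includeRight : C →ₐ[A] (A ⧸ I) ⊗[A] C) x = 0 from hI hx, zero_add]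
      exact Ideal.mem_map_of_mem _ hy
    · rw [Ideal.mem_comap]
      change Φ' (inc c) = 0
      rw [hΦ']
      exact hker.ge (Ideal.mem_sup_right hc)

/-- The localization of `B ⧸ I B` at `g` is the quotient of the localization of `B` by the image of `I`. -/
theorem ker_awayQuot {B : Type u} [CommRing B] [Algebra A B] (g : B)
    {Bg : Type u} [CommRing Bg] [Algebra B Bg] [IsLocalization.Away g Bg] (ψ : Bg →+* Localization.Away (Ideal.Quotient.mk (I.map (algebraMap A B)) g))
    (hψ : ψ.comp (algebraMap B _) = (algebraMap (B ⧸ I.map (algebraMap A B)) _).comp (Ideal.Quotient.mk _)) :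
    Function.Surjective ψ ∧
      RingHom.ker ψ = (I.map (algebraMap A B)).map (algebraMap B Bg) := by
  have hψ' : ∀ b, ψ (algebraMap B _ b) = algebraMap (B ⧸ I.map (algebraMap A B)) _ (Ideal.Quotient.mk _ b) := RingHom.congr_fun hψ
  set D := B ⧸ I.map (algebraMap A B)
  constructor
  · intro z
    obtain ⟨n, d, hd⟩ := IsLocalization.Away.surj (Ideal.Quotient.mk (I.map (algebraMap A B)) g) z
    obtain ⟨b, rfl⟩ := Ideal.Quotient.mk_surjective d
    refine ⟨IsLocalization.mk' (M := Submonoid.powers g) Bg b ⟨g ^ n, n, rfl⟩, ?_⟩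
    refine (((IsLocalization.Away.algebraMap_isUnit (Ideal.Quotient.mk (I.map (algebraMap A B)) g)).pow n).mul_left_inj).1 ?_
    rw [hd, ← hψ', ← map_pow, ← map_pow, ← hψ', ← map_mul, IsLocalization.mk'_spec (M := Submonoid.powers g) Bg b ⟨g ^ n, n, rfl⟩]
  · ext z
    obtain ⟨b, ⟨_, n, rfl⟩, rfl⟩ := IsLocalization.exists_mk'_eq (Submonoid.powers g) z
    rw [RingHom.mem_ker, IsLocalization.mk'_mem_map_algebraMap_iff]
    have hu : IsUnit (ψ (algebraMap B _ (g ^ n))) := by
      rw [map_pow, map_pow]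
      exact ((IsLocalization.Away.algebraMap_isUnit g).map ψ).pow n
    rw [← hu.mul_left_eq_zero, ← map_mul, IsLocalization.mk'_spec (M := Submonoid.powers g) Bg b ⟨g ^ n, n, rfl⟩, hψ',
      IsLocalization.map_eq_zero_iff (Submonoid.powers (Ideal.Quotient.mk (I.map (algebraMap A B)) g))]
    constructor
    · rintro ⟨⟨_, m, rfl⟩, hm⟩
      refine ⟨g ^ m, ⟨m, rfl⟩, ?_⟩
      rw [← Ideal.Quotient.eq_zero_iff_mem, map_mul, map_pow]
      exact hm
    · rintro ⟨_, ⟨m, rfl⟩, hm⟩
      refine ⟨⟨_, m, rfl⟩, ?_⟩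
      rw [← Ideal.Quotient.eq_zero_iff_mem, map_mul, map_pow] at hm
      exact hm

end Groth.Agent.SmoothLift15
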