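import Groth.Agent.Lib.SmoothLift15.Algebra
import Groth.Agent.Lib.SmoothLift15.FinPres
import Groth.Agent.Lib.ThickAff3.Affine
import Mathlib.AlgebraicGeometry.Morphisms.FinitePresentation
import Mathlib.AlgebraicGeometry.Morphisms.Immersion
import Mathlib.RingTheory.Spectrum.Prime.RingHom

/-!
Zariski-local lifts along a square-zero thickening of an affine scheme into a scheme locally of finite presentation
glue to a global lift.
-/

set_option autoImplicit false

universe u

open AlgebraicGeometry CategoryTheory CategoryTheory.Limits TopologicalSpace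

namespace Groth.Agent.SmoothLift15

theorem app_eq_zero_of_eq {X Y : Scheme.{u}} {f g : X ⟶ Y} (e : f = g) (U : Y.Opens) (x : Γ(Y, U))
    (h : f.app U x = 0) : g.app U x = 0 := by
  subst e
  exact h

theorem surjective_specMap_mk {A : Type u} [CommRing A] (I : Ideal A) (hI : I ^ 2 = ⊥) :
    Surjective (Spec.map (CommRingCat.ofHom (Ideal.Quotient.mk I))) := ⟨fun x => by
  have hx : x ∈ PrimeSpectrum.zeroLocus (I : Set A) := fun i hi => by
    refine x.isPrime.mem_of_pow_mem 2 ?_
    have h := Ideal.pow_mem_pow hi 2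
    rw [hI, Ideal.mem_bot] at h
    exact h ▸ x.asIdeal.zero_mem
  rw [← Ideal.mk_ker (I := I), ← range_comap_of_surjective _ _ Ideal.Quotient.mk_surjective] at hx
  exact hx⟩

/-- Square-zero thickenings of spectra multiply kernels to zero on every open. -/
theorem mul_eq_zero_specMap_mk {A : Type u} [CommRing A] (I : Ideal A) (hI : I ^ 2 = ⊥)
    (U : (Spec (.of A)).Opens) (x y : Γ(Spec (.of A), U))
    (hx : (Spec.map (CommRingCat.ofHom (Ideal.Quotient.mk I))).app U x = 0)
    (hy : (Spec.map (CommRingCat.ofHom (Ideal.Quotient.mk I))).app U y = 0) : x * y = 0 := by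
  haveI : IsClosedImmersion (Spec.map (CommRingCat.ofHom (Ideal.Quotient.mk I))) :=
    IsClosedImmersion.spec_of_surjective _ Ideal.Quotient.mk_surjective
  refine ThickAff3.mul_eq_zero_of_cover _ (fun _ : Unit => ⊤) (fun _ => isAffineOpen_top _)
    (by simp) (fun _ x y hx hy => ?_) U x y hx hy
  have key : ∀ z, (Spec.map (CommRingCat.ofHom (Ideal.Quotient.mk I))).app ⊤ z = 0 →
      (Scheme.ΓSpecIso (.of A)).hom z ∈ I := by
    intro z hz
    rw [← Ideal.Quotient.eq_zero_iff_mem]
    refine (ConcreteCategory.congr_hom (Scheme.ΓSpecIso_naturality (CommRingCat.ofHom (Ideal.Quotient.mk I))) z).symm.trans ?_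
    change (Scheme.ΓSpecIso _).hom ((Spec.map (CommRingCat.ofHom (Ideal.Quotient.mk I))).app ⊤ z) = 0
    rw [hz]
    exact map_zero _
  have h := Ideal.mul_mem_mul (key x hx) (key y hy)
  rw [← pow_two, hI, Ideal.mem_bot, ← map_mul] at h
  exact (Scheme.ΓSpecIso (.of A)).commRingCatIsoToRingEquiv.injective (h.trans (map_zero _).symm)

/-- The sections of a closed subscheme over a preimage of an affine open. -/
theorem appLE_comp_eq {X Y Z : Scheme.{u}} (p : X ⟶ Y) (q : Y ⟶ Z) {U : Z.Opens} {V : Y.Opens}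
    (e : V ≤ q ⁻¹ᵁ U) (e' : p ⁻¹ᵁ V ≤ (p ≫ q) ⁻¹ᵁ U) :
    q.appLE U V e ≫ p.app V = (p ≫ q).appLE U (p ⁻¹ᵁ V) e' := by
  rw [Scheme.Hom.app_eq_appLE, Scheme.Hom.appLE_comp_appLE]

theorem appLE_congr_hom {X Y : Scheme.{u}} {f g : X ⟶ Y} (h : f = g) {U : Y.Opens} {V : X.Opens}
    (e : V ≤ f ⁻¹ᵁ U) (e' : V ≤ g ⁻¹ᵁ U) : f.appLE U V e = g.appLE U V e' := by
  subst h
  rfl

/-- Local lifts glue (spectrum form). -/
theorem exists_lift_spec {X S : Scheme.{u}} (f : X ⟶ S) [LocallyOfFinitePresentation f]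
    {A : Type u} [CommRing A] (I : Ideal A) (hI : I ^ 2 = ⊥)
    (a₀ : Spec (.of (A ⧸ I)) ⟶ X) (a : Spec (.of A) ⟶ S)
    (w : a₀ ≫ f = Spec.map (CommRingCat.ofHom (Ideal.Quotient.mk I)) ≫ a)
    (hloc : ∀ m : Ideal A, m.IsMaximal → ∃ g ∉ m, ∃ b : Spec (.of (Localization.Away g)) ⟶ X,
      b ≫ f = Spec.map (CommRingCat.ofHom (algebraMap A (Localization.Away g))) ≫ a ∧
      Spec.map (CommRingCat.ofHom (Ideal.Quotient.mk (I.map (algebraMap A (Localization.Away g))))) ≫ b =
        Spec.map (CommRingCat.ofHom (Ideal.quotientMap _ (algebraMap A (Localization.Away g))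
          Ideal.le_comap_map)) ≫ a₀) :
    ∃ b' : Spec (.of A) ⟶ X, b' ≫ f = a ∧
      Spec.map (CommRingCat.ofHom (Ideal.Quotient.mk I)) ≫ b' = a₀ := by
  set i := Spec.map (CommRingCat.ofHom (Ideal.Quotient.mk I)) with hi_def
  haveI : IsClosedImmersion i := IsClosedImmersion.spec_of_surjective _ Ideal.Quotient.mk_surjective
  haveI : Surjective i := surjective_specMap_mk I hI
  -- the graph and a neighbourhood in which it is closed
  let γ : Spec (.of (A ⧸ I)) ⟶ pullback f a := pullback.lift a₀ i w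
  haveI : IsImmersion (γ ≫ pullback.snd f a) := by rw [pullback.lift_snd]; infer_instance
  haveI : IsImmersion γ := IsImmersion.of_comp γ (pullback.snd f a)
  let h := γ.liftCoborder
  let π : γ.coborderRange.toScheme ⟶ Spec (.of A) := γ.coborderRange.ι ≫ pullback.snd f a
  have hπ : h ≫ π = i := by
    rw [← Category.assoc, γ.liftCoborder_ι, pullback.lift_snd]
  haveI : LocallyOfFinitePresentation π := inferInstance
  -- the first order neighbourhood
  let J := h.ker ^ 2
  let ι₁ := J.subschemeι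
  have hJ : ∀ V, J.ideal V = RingHom.ker (h.app V).hom ^ 2 := fun V => by
    rw [Scheme.IdealSheafData.ideal_pow, Pi.pow_apply, h.ker_apply]
  obtain ⟨s, hs⟩ : ∃ s, s ≫ ι₁ = h := by
    refine ⟨_, IsClosedImmersion.lift_fac ι₁ h ?_⟩
    rw [Scheme.IdealSheafData.ker_subschemeι]
    exact fun V => by
      rw [Scheme.IdealSheafData.ideal_pow, Pi.pow_apply]
      exact Ideal.pow_le_self two_ne_zero
  haveI : IsClosedImmersion (s ≫ ι₁) := by rw [hs]; infer_instance
  haveI : IsClosedImmersion s := IsClosedImmersion.of_comp_isClosedImmersion s ι₁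
  haveI : Surjective s := ⟨fun z => by
    have hz : ι₁ z ∈ (J.support : Set _) := J.range_subschemeι ▸ Set.mem_range_self z
    rw [Scheme.IdealSheafData.support_pow _ 2 two_ne_zero, Scheme.Hom.support_ker] at hz
    obtain ⟨p, hp⟩ := (h.isClosedEmbedding.isClosed_range.closure_eq ▸ hz : ι₁ z ∈ Set.range h)
    exact ⟨p, ι₁.isClosedEmbedding.injective (by rw [← Scheme.Hom.comp_apply, hs, hp])⟩⟩
  have hsq : ∀ (U : J.subscheme.Opens) (x y : Γ(J.subscheme, U)), s.app U x = 0 → s.app U y = 0 → x * y = 0 := by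
    refine ThickAff3.mul_eq_zero_of_cover s
      (fun U : γ.coborderRange.toScheme.affineOpens => ι₁ ⁻¹ᵁ (U.1 : γ.coborderRange.toScheme.Opens))
      (fun U => U.2.preimage _) ?_ ?_
    · rw [← Scheme.Hom.preimage_iSup, iSup_affineOpens_eq_top]
      rfl
    intro U x y hx hy
    obtain ⟨x, rfl⟩ := J.subschemeι_app_surjective U x
    obtain ⟨y, rfl⟩ := J.subschemeι_app_surjective U y
    have key : ∀ z, s.app _ (J.subschemeι.app U z) = 0 → z ∈ RingHom.ker (h.app U).hom := fun z hz =>
      ThickAff3.ker_app_of_eq h (s ≫ J.subschemeι) hs U z (by rw [Scheme.Hom.comp_app]; exact hz)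
    have hxy : x * y ∈ RingHom.ker (J.subschemeι.app U).hom := by
      rw [J.ker_subschemeι_app U, hJ, pow_two]
      exact Ideal.mul_mem_mul (key x hx) (key y hy)
    rw [← map_mul]
    exact hxy
  haveI : IsAffine J.subscheme := ThickAff3.isAffine_of_sq_zero s hsq
  let π₁ := ι₁ ≫ π
  have hπ₁ : s ≫ π₁ = i := by rw [← Category.assoc, hs, hπ]
  -- the algebra
  let B := Γ(J.subscheme, ⊤)
  letI : Algebra A B := ((Scheme.ΓSpecIso (.of A)).inv ≫ π₁.appTop).hom.toAlgebra
  let pr : B →+* A ⧸ I := (s.appTop ≫ (Scheme.ΓSpecIso (.of (A ⧸ I))).hom).hom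
  have hpr : ∀ x : A, pr (algebraMap A B x) = Ideal.Quotient.mk I x := by
    have e : (Scheme.ΓSpecIso (.of A)).inv ≫ π₁.appTop ≫ s.appTop ≫ (Scheme.ΓSpecIso (.of (A ⧸ I))).hom =
        CommRingCat.ofHom (Ideal.Quotient.mk I) := by
      rw [← Category.assoc π₁.appTop, ← Scheme.Hom.comp_appTop, hπ₁, Scheme.ΓSpecIso_naturality,
        Iso.inv_hom_id_assoc]
    exact fun x => ConcreteCategory.congr_hom e x
  let p : B →ₐ[A] A ⧸ I := { pr with commutes' := hpr }
  have hp2 : RingHom.ker p ^ 2 = ⊥ := by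
    rw [pow_two, eq_bot_iff]
    refine Ideal.mul_le.2 fun x hx y hy => (Ideal.mem_bot).2 (hsq ⊤ x y ?_ ?_)
    · exact (Scheme.ΓSpecIso (.of (A ⧸ I))).commRingCatIsoToRingEquiv.injective (hx.trans (map_zero _).symm)
    · exact (Scheme.ΓSpecIso (.of (A ⧸ I))).commRingCatIsoToRingEquiv.injective (hy.trans (map_zero _).symm)
  -- identification with spectra
  let e := J.subscheme.isoSpec
  have heπ : e.inv ≫ π₁ = Spec.map (CommRingCat.ofHom (algebraMap A B)) := by
    rw [← cancel_mono (Spec (.of A)).isoSpec.hom, Category.assoc, ← Scheme.isoSpec_hom_naturality,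
      Iso.inv_hom_id_assoc, Scheme.isoSpec_Spec_hom, ← Spec.map_comp]
    congr 1
    change π₁.appTop = (Scheme.ΓSpecIso (.of A)).hom ≫ (Scheme.ΓSpecIso (.of A)).inv ≫ π₁.appTop
    rw [Iso.hom_inv_id_assoc]
  have hes : s ≫ e.hom = Spec.map (CommRingCat.ofHom pr) := by
    rw [← Scheme.isoSpec_hom_naturality, Scheme.isoSpec_Spec_hom, ← Spec.map_comp]
    rfl
  -- finite presentation modulo `I`
  haveI : Algebra.FinitePresentation (A ⧸ I) (B ⧸ I.map (algebraMap A B)) := by
    rw [← RingHom.finitePresentation_algebraMap]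
    let G := {g : A | ∃ V : γ.coborderRange.toScheme.affineOpens,
      i ⁻¹ᵁ (Spec (.of A)).basicOpen ((Scheme.ΓSpecIso (.of A)).inv g) ≤ h ⁻¹ᵁ V.1}
    have hG : Ideal.span G = ⊤ := by
      by_contra hne
      obtain ⟨m, hm, hle⟩ := Ideal.exists_le_maximal _ hne
      obtain ⟨t, ht⟩ := i.surjective (⟨m, hm.isPrime⟩ : PrimeSpectrum A)
      obtain ⟨V, hV, htV, -⟩ := exists_isAffineOpen_mem_and_subset (Opens.mem_top (h t))
      obtain ⟨_, ⟨r, rfl⟩, htr, hr⟩ := PrimeSpectrum.isTopologicalBasis_basic_opens.exists_subset_of_mem_open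
        (show t ∈ (h ⁻¹ᵁ V).1 from htV) (h ⁻¹ᵁ V).2
      obtain ⟨g, rfl⟩ := Ideal.Quotient.mk_surjective r
      have hgm : g ∉ m := by
        intro hg
        have h1 : (PrimeSpectrum.comap (Ideal.Quotient.mk I) t).asIdeal = m := congrArg PrimeSpectrum.asIdeal ht
        exact htr (h1 ▸ hg : g ∈ (PrimeSpectrum.comap (Ideal.Quotient.mk I) t).asIdeal)
      refine hgm (hle (Ideal.subset_span ⟨⟨V, hV⟩, fun z hz => hr ?_⟩))
      rw [basicOpen_eq_of_affine] at hz
      exact hz
    refine RingHom.finitePresentation_ofLocalizationSpanTarget _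
      (Set.image (fun g => Ideal.Quotient.mk (I.map (algebraMap A B)) (algebraMap A B g)) G) ?_ ?_
    · have h1 := congrArg (Ideal.map ((Ideal.Quotient.mk (I.map (algebraMap A B))).comp (algebraMap A B))) hG
      rwa [Ideal.map_span, Ideal.map_top] at h1
    rintro ⟨_, g, ⟨V, hV⟩, rfl⟩
    set gB := algebraMap A B g
    let E := Localization.Away (Ideal.Quotient.mk (I.map (algebraMap A B)) gB)
    -- the affine piece
    set gΓ := (Scheme.ΓSpecIso (.of A)).inv g
    let V' : γ.coborderRange.toScheme.Opens := V.1 ⊓ π ⁻¹ᵁ (Spec (.of A)).basicOpen gΓ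
    have hV' : IsAffineOpen V' := by
      have : V' = γ.coborderRange.toScheme.basicOpen
          (γ.coborderRange.toScheme.presheaf.map (homOfLE le_top).op (π.app ⊤ gΓ) : Γ(_, V.1)) := by
        exact ((γ.coborderRange.toScheme.basicOpen_res _ _).trans
          (congrArg (V.1 ⊓ ·) (Scheme.preimage_basicOpen π gΓ).symm)).symm
      exact this ▸ V.2.basicOpen _
    have hO : ι₁ ⁻¹ᵁ V' = J.subscheme.basicOpen gB := by
      have h1 : J.subscheme.basicOpen gB = π₁ ⁻¹ᵁ (Spec (.of A)).basicOpen gΓ :=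
        (Scheme.preimage_basicOpen π₁ gΓ).symm
      rw [h1]
      refine le_antisymm (fun z hz => hz.2) fun z hz => ⟨?_, hz⟩
      obtain ⟨t, rfl⟩ := s.surjective z
      have h2 : t ∈ h ⁻¹ᵁ V.1 := hV (show i t ∈ (Spec (.of A)).basicOpen gΓ by
        rw [← hπ₁, Scheme.Hom.comp_apply]; exact hz)
      change ι₁ (s t) ∈ V.1
      rw [← Scheme.Hom.comp_apply, hs]
      exact h2
    letI : Algebra B Γ(J.subscheme, ι₁ ⁻¹ᵁ V') := (J.subscheme.presheaf.map (homOfLE le_top).op).hom.toAlgebra
    haveI : IsLocalization.Away gB Γ(J.subscheme, ι₁ ⁻¹ᵁ V') := by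
      suffices H : ∀ (O : J.subscheme.Opens) (hO : O = J.subscheme.basicOpen gB),
          letI : Algebra B Γ(J.subscheme, O) := (J.subscheme.presheaf.map (homOfLE le_top).op).hom.toAlgebra
          IsLocalization.Away gB Γ(J.subscheme, O) from H _ hO
      rintro _ rfl
      exact (isAffineOpen_top J.subscheme).isLocalization_basicOpen gB
    let ψ : Γ(J.subscheme, ι₁ ⁻¹ᵁ V') →+* E := IsLocalization.Away.lift gB
      (g := (algebraMap (B ⧸ I.map (algebraMap A B)) E).comp (Ideal.Quotient.mk _))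
      (IsLocalization.Away.algebraMap_isUnit (Ideal.Quotient.mk (I.map (algebraMap A B)) gB))
    obtain ⟨hψs, hψk⟩ := ker_awayQuot I gB ψ (IsLocalization.Away.lift_comp _ _)
    -- algebra structures
    let C := Γ(γ.coborderRange.toScheme, V')
    let cA : A →+* C := (π.appLE ⊤ V' le_top).hom.comp (Scheme.ΓSpecIso (.of A)).inv.hom
    letI : Algebra A C := cA.toAlgebra
    haveI : Algebra.FinitePresentation A C := by
      rw [← RingHom.finitePresentation_algebraMap]
      exact (π.finitePresentation_appLE (isAffineOpen_top _) hV' le_top).comp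
        (RingHom.FinitePresentation.of_bijective
          (Scheme.ΓSpecIso (.of A)).symm.commRingCatIsoToRingEquiv.bijective)
    let R' := Γ(Spec (.of (A ⧸ I)), h ⁻¹ᵁ V')
    let cR : A ⧸ I →+* R' := ((𝟙 (Spec (.of (A ⧸ I)))) : Spec (.of (A ⧸ I)) ⟶ _).appLE ⊤ (h ⁻¹ᵁ V') le_top
      |>.hom.comp (Scheme.ΓSpecIso (.of (A ⧸ I))).inv.hom
    letI : Algebra (A ⧸ I) R' := cR.toAlgebra
    letI : Algebra A R' := (cR.comp (Ideal.Quotient.mk I)).toAlgebra
    haveI : IsScalarTower A (A ⧸ I) R' := IsScalarTower.of_algebraMap_eq fun _ => rfl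
    haveI : Algebra.FinitePresentation (A ⧸ I) R' := by
      rw [← RingHom.finitePresentation_algebraMap]
      exact ((𝟙 (Spec (.of (A ⧸ I))) : Spec (.of (A ⧸ I)) ⟶ _).finitePresentation_appLE (isAffineOpen_top _)
        (hV'.preimage h) le_top).comp
        (RingHom.FinitePresentation.of_bijective
          (Scheme.ΓSpecIso (.of (A ⧸ I))).symm.commRingCatIsoToRingEquiv.bijective)
    let φ : C →ₐ[A] R' := { (h.app V').hom with
      commutes' := fun x => by
        change (π.appLE ⊤ V' le_top ≫ h.app V') ((Scheme.ΓSpecIso (.of A)).inv x) = _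
        rw [appLE_comp_eq h π le_top le_top, appLE_congr_hom (hπ.trans (Category.id_comp i).symm) le_top le_top,
          ← Scheme.Hom.appLE_comp_appLE (𝟙 _) i ⊤ ⊤ (h ⁻¹ᵁ V') le_top le_top, CommRingCat.comp_apply]
        refine congrArg _ ?_
        rw [show i.appLE ⊤ ⊤ le_top = i.appTop from Scheme.Hom.appLE_eq_app i]
        exact (ConcreteCategory.congr_hom (Scheme.ΓSpecIso_inv_naturality (CommRingCat.ofHom (Ideal.Quotient.mk I))) x).symm }
    let χ : C →ₐ[A] E := { ψ.comp (ι₁.app V').hom with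
      commutes' := fun x => by
        change ψ ((π.appLE ⊤ V' le_top ≫ ι₁.app V') ((Scheme.ΓSpecIso (.of A)).inv x)) = _
        rw [appLE_comp_eq ι₁ π le_top le_top]
        change ψ (algebraMap B _ (algebraMap A B x)) = _
        rw [IsLocalization.Away.lift_eq]
        rfl }
    have hιs := J.subschemeι_app_surjective ⟨V', hV'⟩
    have hφker : RingHom.ker φ = RingHom.ker (h.app V').hom := rfl
    have hφs : Function.Surjective φ := h.app_surjective V' hV'
    have hχker : RingHom.ker χ = I.map (algebraMap A C) ⊔ RingHom.ker φ ^ 2 := by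
      have hcomp : (ι₁.app V').hom.comp (algebraMap A C) =
          ((algebraMap B Γ(J.subscheme, ι₁ ⁻¹ᵁ V')).comp (algebraMap A B)) := RingHom.ext fun x => by
        change (π.appLE ⊤ V' le_top ≫ ι₁.app V') ((Scheme.ΓSpecIso (.of A)).inv x) = _
        rw [appLE_comp_eq ι₁ π le_top le_top]
        rfl
      calc RingHom.ker χ = RingHom.ker (ψ.comp (ι₁.app V').hom) := rfl
        _ = ((I.map (algebraMap A C)).map (ι₁.app V').hom).comap (ι₁.app V').hom := by
          rw [← RingHom.comap_ker, hψk, Ideal.map_map, Ideal.map_map, hcomp]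
        _ = I.map (algebraMap A C) ⊔ RingHom.ker φ ^ 2 := by
          rw [Ideal.comap_map_of_surjective _ hιs, ← RingHom.ker_eq_comap_bot, hφker,
            J.ker_subschemeι_app ⟨V', hV'⟩, hJ]
    have hfp := finitePresentation_firstOrder I φ hφs χ (hψs.comp hιs) hχker
    rw [← RingHom.finitePresentation_algebraMap] at hfp
    exact hfp
  -- local sections
  obtain ⟨σ, hσ⟩ := exists_section I p hp2 (fun m hm => by
    obtain ⟨g, hgm, b, hb1, hb2⟩ := hloc m hm
    refine ⟨g, hgm, ?_⟩
    set q := CommRingCat.ofHom (Ideal.Quotient.mk (I.map (algebraMap A (Localization.Away g)))) with hq_def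
    set jr := CommRingCat.ofHom (Ideal.quotientMap (I.map (algebraMap A (Localization.Away g)))
      (algebraMap A (Localization.Away g)) Ideal.le_comap_map) with hjr_def
    have hIg : (I.map (algebraMap A (Localization.Away g))) ^ 2 = ⊥ := by rw [← Ideal.map_pow, hI, Ideal.map_bot]
    haveI : Surjective (Spec.map q) := surjective_specMap_mk _ hIg
    let l₀ : Spec (.of (Localization.Away g)) ⟶ pullback f a := pullback.lift b _ hb1
    have hl₀ : Spec.map q ≫ l₀ = Spec.map jr ≫ γ := by
      apply pullback.hom_ext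
      · simp only [l₀, γ, Category.assoc]
        erw [pullback.lift_fst, pullback.lift_fst]
        exact hb2
      · simp only [l₀, γ, Category.assoc, pullback.lift_snd, hi_def, ← Spec.map_comp]
        rfl
    have hrange : Set.range l₀ ⊆ Set.range γ.coborderRange.ι := by
      rintro _ ⟨z, rfl⟩
      obtain ⟨t, rfl⟩ := (Spec.map q).surjective z
      rw [← Scheme.Hom.comp_apply, hl₀, Scheme.Hom.comp_apply]
      exact ⟨h (Spec.map jr t), by rw [← Scheme.Hom.comp_apply, γ.liftCoborder_ι]⟩
    let l := IsOpenImmersion.lift γ.coborderRange.ι l₀ hrange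
    have hl : Spec.map q ≫ l = Spec.map jr ≫ h := by
      rw [← cancel_mono γ.coborderRange.ι, Category.assoc, Category.assoc, IsOpenImmersion.lift_fac,
        γ.liftCoborder_ι, hl₀]
    have hker : ι₁.ker ≤ l.ker := by
      rw [Scheme.IdealSheafData.ker_subschemeι]
      refine Scheme.IdealSheafData.le_ofIdeals_iff.2 fun V => ?_
      rw [hJ, pow_two]
      refine Ideal.mul_le.2 fun x hx y hy => ?_
      rw [RingHom.mem_ker, map_mul]
      have key : ∀ x, h.app V x = 0 → (Spec.map q).app _ (l.app V x) = 0 := fun x hx => by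
        have h0 : (Spec.map jr ≫ h).app V x = 0 := by
          rw [Scheme.Hom.comp_app]
          change (Spec.map jr).app _ (h.app V x) = 0
          rw [hx]
          exact map_zero _
        exact app_eq_zero_of_eq hl.symm V x h0
      exact mul_eq_zero_specMap_mk _ hIg _ _ _ (key x hx) (key y hy)
    let l₁ := IsClosedImmersion.lift ι₁ l hker
    let σg := Spec.preimage (l₁ ≫ e.hom)
    have hσg : Spec.map σg ≫ e.inv ≫ ι₁ = l := by
      rw [Spec.map_preimage, Category.assoc, Iso.hom_inv_id_assoc, IsClosedImmersion.lift_fac]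
    have hcomm : CommRingCat.ofHom (algebraMap A B) ≫ σg =
        CommRingCat.ofHom (algebraMap A (Localization.Away g)) := by
      refine Spec.map_injective ?_
      rw [Spec.map_comp, ← heπ]
      change Spec.map σg ≫ e.inv ≫ ι₁ ≫ π = _
      rw [reassoc_of% hσg, ← Category.assoc, IsOpenImmersion.lift_fac, pullback.lift_snd]
    have hred : σg ≫ q = CommRingCat.ofHom pr ≫ jr := by
      refine Spec.map_injective ?_
      rw [Spec.map_comp, Spec.map_comp, ← cancel_mono e.inv, ← cancel_mono ι₁, ← hes]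
      simp only [Category.assoc, Iso.hom_inv_id_assoc, hs, hσg, hl]
    refine ⟨{ σg.hom with commutes' := fun x => ConcreteCategory.congr_hom hcomm x }, fun x hx => ?_⟩
    rw [← Ideal.Quotient.eq_zero_iff_mem]
    refine (ConcreteCategory.congr_hom hred x).trans ?_
    change jr (pr x) = 0
    rw [show pr x = 0 from hx, map_zero])
  refine ⟨Spec.map (CommRingCat.ofHom σ.toRingHom) ≫ e.inv ≫ ι₁ ≫ γ.coborderRange.ι ≫ pullback.fst f a, ?_, ?_⟩
  · simp only [Category.assoc, pullback.condition]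
    change Spec.map (CommRingCat.ofHom σ.toRingHom) ≫ e.inv ≫ (ι₁ ≫ (γ.coborderRange.ι ≫ pullback.snd f a ≫ a)) = a
    rw [← Category.assoc γ.coborderRange.ι, ← Category.assoc ι₁, ← Category.assoc e.inv, heπ,
      ← Category.assoc, ← Spec.map_comp, ← CommRingCat.ofHom_comp,
      show σ.toRingHom.comp (algebraMap A B) = RingHom.id A from RingHom.ext σ.commutes,
      CommRingCat.ofHom_id, Spec.map_id, Category.id_comp]
  · rw [hi_def, ← Category.assoc, ← Spec.map_comp, ← CommRingCat.ofHom_comp,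
      show (Ideal.Quotient.mk I).comp σ.toRingHom = pr from RingHom.ext hσ, ← hes]
    simp only [Category.assoc, Iso.hom_inv_id_assoc]
    rw [reassoc_of% hs, ← Category.assoc h, γ.liftCoborder_ι, pullback.lift_fst]

end Groth.Agent.SmoothLift15
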