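import Groth.Agent.Lib.SmoothLift15.Chart
import Groth.Agent.Lib.SmoothLift15.Geometry
import Groth.Agent.Lib.SmoothLift15.Main
import Groth.Agent.Lib.AlgSpace.Points
import Groth.Agent.Lib.Hens.EtaleLift
import Mathlib.AlgebraicGeometry.Morphisms.Smooth
import Mathlib.AlgebraicGeometry.Limits

/-!
Smooth morphisms of algebraic spaces are formally smooth.
-/

set_option autoImplicit false

universe u

open CategoryTheory CategoryTheory.Limits AlgebraicGeometry AlgSp Opposite MorphismProperty TopologicalSpace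
open Groth.Agent.AlgSpace

namespace Groth.Agent.SmoothLift15

/-- An affine étale cover of an affine scheme refining a cover and mapping to an affine chart. -/
theorem exists_affine_refinement_pair {W U T : Scheme.{u}} [IsAffine T] (s : W ⟶ U) (w : W ⟶ T) [Etale w]
    [Surjective w] :
    ∃ (W' U' : Scheme.{u}) (_ : IsAffine W') (_ : IsAffine U') (q : U' ⟶ U) (ω : W' ⟶ U') (a : W' ⟶ W),
      Etale q ∧ Etale a ∧ a ≫ s = ω ≫ q ∧ Surjective (a ≫ w) := by
  have hex : ∀ t : T, ∃ (O : U.Opens) (W₁ : W.Opens) (_ : IsAffineOpen O) (_ : IsAffineOpen W₁)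
      (_ : W₁ ≤ s ⁻¹ᵁ O), t ∈ w '' (W₁ : Set W) := by
    intro t
    obtain ⟨z, rfl⟩ := w.surjective t
    obtain ⟨O, hO, hz, -⟩ := exists_isAffineOpen_mem_and_subset (Opens.mem_top (s z))
    obtain ⟨W₁, hW₁, hz₁, hle⟩ := exists_isAffineOpen_mem_and_subset (X := W) (x := z) (U := s ⁻¹ᵁ O) hz
    exact ⟨O, W₁, hO, hW₁, hle, z, hz₁, rfl⟩
  choose O W₁ hO hW₁ hle hmem using hex
  obtain ⟨σ, hσ⟩ := (isCompact_univ (X := T)).elim_finite_subcover (fun t => w '' (W₁ t : Set W))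
    (fun t => w.isOpenMap _ (W₁ t).2) (fun t _ => Set.mem_iUnion.2 ⟨t, hmem t⟩)
  haveI : ∀ i : σ, IsAffine (W₁ i.1).toScheme := fun i => hW₁ i.1
  haveI : ∀ i : σ, IsAffine (O i.1).toScheme := fun i => hO i.1
  refine ⟨∐ fun i : σ => (W₁ i.1).toScheme, ∐ fun i : σ => (O i.1).toScheme, inferInstance, inferInstance,
    Sigma.desc fun i => (O i.1).ι, Sigma.desc fun i => s.resLE (O i.1) (W₁ i.1) (hle i.1) ≫ Sigma.ι (fun i : σ => (O i.1).toScheme) i,
    Sigma.desc fun i => (W₁ i.1).ι, IsZariskiLocalAtSource.sigmaDesc fun i => inferInstance,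
    IsZariskiLocalAtSource.sigmaDesc fun i => inferInstance, ?_, ⟨fun t => ?_⟩⟩
  · exact Sigma.hom_ext _ _ fun i => by simp
  · obtain ⟨i, hi, z, hz, rfl⟩ := Set.mem_iUnion₂.1 (hσ (Set.mem_univ t))
    refine ⟨(Sigma.ι (fun i : σ => (W₁ i.1).toScheme) ⟨i, hi⟩) ⟨z, hz⟩, ?_⟩
    rw [← Scheme.Hom.comp_apply, Sigma.ι_desc_assoc]
    rfl

variable {S : Scheme.{u}}

/-- Smooth morphisms of algebraic spaces are formally smooth. -/
theorem isFormallySmoothMor_of_locP_smooth {X Y : Sp S} (hX : IsAlgSpace X) (hY : IsAlgSpace Y) (g : X ⟶ Y)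
    (hg : LocP @Smooth g) : IsFormallySmoothMor g := by
  intro sq
  have sqP := IsPullback.of_hasPullback g sq.bot
  have hP : IsAlgSpace (pullback g sq.bot) := isAlgSpace_pullback hY hX (IsAlgSpace.yon_obj sq.ptT') sqP
  let prT : pullback g sq.bot ⟶ (yon S).obj sq.ptT' := pullback.snd g sq.bot
  have hprT : LocP @Smooth prT := locP_of_isPullback hX hY (IsAlgSpace.yon_obj sq.ptT') sqP hg
  let s₀ := sqP.lift sq.top ((yon S).map sq.j) sq.comm
  obtain ⟨U, p, hpe, hps⟩ := hP.atlas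
  obtain ⟨h, hh⟩ := (yon S).map_surjective (p ≫ prT)
  have hsm : Smooth h.left := hprT p (𝟙 _) h hpe (repWith_id @Etale _) (by rw [Category.comp_id, hh])
  -- the cover of the closed subscheme
  have sqW := hpe.1.isPullback s₀
  haveI : Etale (hpe.1.snd s₀).left := hpe.2 s₀ _ _ sqW
  haveI : Surjective (hpe.1.snd s₀).left := hps.2 s₀ _ _ sqW
  obtain ⟨fstW, hfstW⟩ := (yon S).map_surjective (hpe.1.fst s₀ ≫ p ≫ prT)
  obtain ⟨sW, hsW⟩ := (yon S).map_surjective (hpe.1.fst s₀)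
  haveI : IsAffine sq.ptT.left := (inferInstance : IsAffine (Spec _))
  obtain ⟨W', U', _, _, q, ω, a, hq, ha, hsq, hsurj⟩ :=
    exists_affine_refinement_pair sW.left (hpe.1.snd s₀).left
  -- the chart
  obtain ⟨χ, hχ⟩ := Spec.map_surjective (U'.isoSpec.inv ≫ q ≫ h.left)
  letI : Algebra sq.A Γ(U', ⊤) := χ.hom.toAlgebra
  haveI : Algebra.Smooth sq.A Γ(U', ⊤) := by
    haveI : Smooth q := inferInstance
    have hs : Smooth (U'.isoSpec.inv ≫ q ≫ h.left) := inferInstance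
    exact (HasRingHomProperty.Spec_iff (P := @Smooth)).1 (hχ ▸ hs : Smooth (Spec.map χ))
  let qO : pt sq.str Γ(U', ⊤) ⟶ U := Over.homMk (U'.isoSpec.inv ≫ q) (by
    rw [← Over.w h]
    change (U'.isoSpec.inv ≫ q) ≫ h.left ≫ sq.str = Spec.map χ ≫ sq.str
    rw [hχ, Category.assoc, Category.assoc, Category.assoc])
  let pC := (yon S).map qO ≫ p
  have hpC : RepWith @Etale pC := repWith_comp ((repWith_yon_map_iff _ _).2 (by
    change Etale (U'.isoSpec.inv ≫ q)
    infer_instance)) hpe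
  have hpCr : pC ≫ prT = (yon S).map (ptMap sq.str Γ(U', ⊤)) := by
    rw [Category.assoc, ← hh, ← Functor.map_comp]
    refine congrArg _ (Over.OverMorphism.ext ?_)
    change (U'.isoSpec.inv ≫ q) ≫ h.left = Spec.map χ
    rw [hχ, Category.assoc]
  -- the étale algebra
  haveI hwe : Etale (a ≫ (hpe.1.snd s₀).left) := inferInstance
  obtain ⟨ψ, hψ⟩ := Spec.map_surjective (W'.isoSpec.inv ≫ a ≫ (hpe.1.snd s₀).left)
  letI : Algebra (sq.A ⧸ sq.I) Γ(W', ⊤) := ψ.hom.toAlgebra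
  letI : Algebra sq.A Γ(W', ⊤) := (ψ.hom.comp (Ideal.Quotient.mk sq.I)).toAlgebra
  haveI : IsScalarTower sq.A (sq.A ⧸ sq.I) Γ(W', ⊤) := IsScalarTower.of_algebraMap_eq fun _ => rfl
  haveI : Algebra.Etale (sq.A ⧸ sq.I) Γ(W', ⊤) := by
    refine RingHom.etale_algebraMap.1 ?_
    exact (HasRingHomProperty.Spec_iff (P := @Etale)).1
      (hψ ▸ (inferInstance : Etale (W'.isoSpec.inv ≫ a ≫ (hpe.1.snd s₀).left)) : Etale (Spec.map ψ))
  obtain ⟨E, _, _, _, θ, hθ, hker⟩ := Hens.exists_etale_lift sq.A sq.I Γ(W', ⊤)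
  let e : (E ⧸ sq.I.map (algebraMap sq.A E)) ≃ₐ[sq.A] Γ(W', ⊤) :=
    (Ideal.quotientEquivAlgOfEq sq.A hker.symm).trans (Ideal.quotientKerAlgEquivOfSurjective hθ)
  haveI : Module.FaithfullyFlat sq.A E := by
    refine Module.FaithfullyFlat.of_comap_surjective fun x => ?_
    obtain ⟨t, rfl⟩ := (surjective_specMap_mk sq.I sq.sq_zero).surj x
    obtain ⟨z, hz⟩ := hsurj.surj t
    refine ⟨PrimeSpectrum.comap θ.toRingHom (W'.isoSpec.hom z), ?_⟩
    have h2 : Spec.map ψ (W'.isoSpec.hom z) = t := by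
      rw [hψ, ← Scheme.Hom.comp_apply, Iso.hom_inv_id_assoc, hz]
    rw [← h2]
    change PrimeSpectrum.comap (algebraMap sq.A E) (PrimeSpectrum.comap θ.toRingHom _) = _
    rw [← PrimeSpectrum.comap_comp_apply, show θ.toRingHom.comp (algebraMap sq.A E) = algebraMap sq.A Γ(W', ⊤) from θ.comp_algebraMap]
    rfl
  let eO : pt sq.str (E ⧸ sq.I.map (algebraMap sq.A E)) ⟶ pt sq.str Γ(W', ⊤) := ptHom sq.str e.symm.toAlgHom
  let aO : pt sq.str Γ(W', ⊤) ⟶ hpe.1.pullback s₀ := Over.homMk (W'.isoSpec.inv ≫ a) (by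
    rw [← Over.w (hpe.1.snd s₀)]
    change (W'.isoSpec.inv ≫ a) ≫ (hpe.1.snd s₀).left ≫
        Spec.map (CommRingCat.ofHom (Ideal.Quotient.mk sq.I)) ≫ sq.str = _
    rw [← Category.assoc (W'.isoSpec.inv ≫ a), Category.assoc W'.isoSpec.inv, ← hψ, ← Spec.map_comp_assoc]
    rfl)
  have hquot : eO ≫ aO ≫ hpe.1.snd s₀ = ptHom sq.str (quotMap sq.I E) := by
    refine Over.OverMorphism.ext ?_
    change Spec.map _ ≫ (W'.isoSpec.inv ≫ a) ≫ (hpe.1.snd s₀).left = Spec.map _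
    rw [Category.assoc, ← hψ, ← Spec.map_comp]
    refine congrArg Spec.map (CommRingCat.hom_ext (Ideal.Quotient.ringHom_ext (RingHom.ext fun r => ?_)))
    exact (e.symm.commutes r).trans rfl
  let v : pt sq.str (E ⧸ sq.I.map (algebraMap sq.A E)) ⟶ pt sq.str Γ(U', ⊤) :=
    eO ≫ Over.homMk (W'.isoSpec.inv ≫ ω ≫ U'.isoSpec.hom) (by
      rw [← Over.w aO]
      change (W'.isoSpec.inv ≫ ω ≫ U'.isoSpec.hom) ≫ Spec.map χ ≫ sq.str = (W'.isoSpec.inv ≫ a) ≫ (hpe.1.pullback s₀).hom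
      rw [hχ, ← Over.w sW, ← Over.w h]
      simp only [Category.assoc, Iso.hom_inv_id_assoc]
      rw [reassoc_of% hsq]
      rfl)
  have hv : v ≫ qO = eO ≫ aO ≫ sW := by
    refine Over.OverMorphism.ext ?_
    change (Spec.map _ ≫ W'.isoSpec.inv ≫ ω ≫ U'.isoSpec.hom) ≫ U'.isoSpec.inv ≫ q =
      Spec.map _ ≫ (W'.isoSpec.inv ≫ a) ≫ sW.left
    simp only [Category.assoc, Iso.hom_inv_id_assoc, hsq]
  have hvC : (yon S).map v ≫ pC = (yon S).map (ptHom sq.str (quotMap sq.I E)) ≫ s₀ := by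
    rw [← Functor.map_comp_assoc, hv, Functor.map_comp, Functor.map_comp, hsW, Category.assoc, Category.assoc,
      sqW.w, ← Functor.map_comp_assoc, ← Functor.map_comp_assoc, Category.assoc, hquot]
  have hvT : v ≫ ptMap sq.str Γ(U', ⊤) = ptMap sq.str _ := (yon S).map_injective (by
    rw [Functor.map_comp, ← hpCr, ← Category.assoc, hvC, Category.assoc,
      show s₀ ≫ prT = (yon S).map sq.j from sqP.lift_snd _ _ _, ← Functor.map_comp]
    exact congrArg _ (ptHom_ptMap (str := sq.str) (quotMap sq.I E)))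
  obtain ⟨εC₀, hεC₀⟩ := exists_ptHom_eq v hvT
  obtain ⟨ℓ, hℓ1, hℓ2⟩ := exists_lift_of_chart (I := sq.I) sq.sq_zero prT s₀ (sqP.lift_snd _ _ _) pC hpC hpCr E
    εC₀ (by rw [hεC₀]; exact hvC)
  refine ⟨ℓ ≫ pullback.fst g sq.bot, ?_, ?_⟩
  · rw [← Category.assoc]
    exact (congrArg (· ≫ pullback.fst g sq.bot) hℓ1).trans (sqP.lift_fst _ _ _)
  · rw [Category.assoc, pullback.condition, ← Category.assoc]
    exact (congrArg (· ≫ sq.bot) hℓ2).trans (Category.id_comp _)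

open Groth.Agent.AlgSpDescent

set_option backward.isDefEq.respectTransparency.types false in
theorem formallySmooth_of_repWith {F G : Sp S} {a : F ⟶ G} {P : MorphismProperty Scheme.{u}}
    (hP : ∀ ⦃X Y : Scheme.{u}⦄ (g : X ⟶ Y), P g → MoreMor.IsFormallySmoothHom g) (ha : RepWith P a) :
    IsFormallySmoothMor a := by
  intro sq
  have sqP := ha.1.isPullback sq.bot
  obtain ⟨s₀, hs₀⟩ := (yon S).map_surjective (sqP.lift sq.top ((yon S).map sq.j) sq.comm)
  have hs₀s : s₀ ≫ ha.1.snd sq.bot = sq.j := (yon S).map_injective (by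
    rw [Functor.map_comp, hs₀, sqP.lift_snd])
  obtain ⟨s, hs1, hs2⟩ := hP _ (ha.2 sq.bot _ _ sqP) sq.A sq.I sq.sq_zero s₀.left (𝟙 _)
    ((Category.comp_id _).trans (congrArg CommaMorphism.left hs₀s).symm)
  let sO : sq.ptT' ⟶ _ := Over.homMk s (by
    rw [← Over.w (ha.1.snd sq.bot)]
    exact (Category.assoc _ _ _).symm.trans ((congrArg (· ≫ sq.ptT'.hom) hs2).trans (Category.id_comp _)))
  have hsO : sO ≫ ha.1.snd sq.bot = 𝟙 _ := Over.OverMorphism.ext hs2
  refine ⟨(yon S).map sO ≫ ha.1.fst sq.bot, ?_, ?_⟩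
  · rw [← Functor.map_comp_assoc, show sq.j ≫ sO = s₀ from Over.OverMorphism.ext hs1, hs₀, sqP.lift_fst]
  · rw [Category.assoc, sqP.w, ← Functor.map_comp_assoc, hsO, (yon S).map_id]
    exact Category.id_comp _

theorem formallySmooth_yon_map {U V : Over S} (h : U ⟶ V) :
    IsFormallySmoothMor ((yon S).map h) ↔ MoreMor.IsFormallySmoothHom h.left := by
  refine ⟨fun H => ?_, fun hh sq => ?_⟩
  · intro A _ I hI a b w
    let str := b ≫ V.hom
    let A₀ : Over.mk (Spec.map (CommRingCat.ofHom (Ideal.Quotient.mk I)) ≫ str) ⟶ U := Over.homMk a (by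
      change a ≫ U.hom = _ ≫ b ≫ V.hom
      rw [← Over.w h, ← Category.assoc, ← w, Category.assoc])
    let B : Over.mk str ⟶ V := Over.homMk b rfl
    obtain ⟨l, hl1, hl2⟩ := H ⟨A, I, hI, str, (yon S).map A₀, (yon S).map B, by
      rw [← Functor.map_comp, ← Functor.map_comp]
      exact congrArg _ (Over.OverMorphism.ext w.symm)⟩
    obtain ⟨L, rfl⟩ := (yon S).map_surjective l
    exact ⟨L.left, congrArg CommaMorphism.left ((yon S).map_injective ((Functor.map_comp _ _ _).trans hl1)),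
      congrArg CommaMorphism.left ((yon S).map_injective ((Functor.map_comp _ _ _).trans hl2))⟩
  · obtain ⟨a, ha⟩ := (yon S).map_surjective sq.top
    obtain ⟨b, hb⟩ := (yon S).map_surjective sq.bot
    have w : a ≫ h = sq.j ≫ b := (yon S).map_injective (by
      rw [Functor.map_comp, Functor.map_comp, ha, hb]; exact sq.comm)
    obtain ⟨l, hl1, hl2⟩ := hh sq.A sq.I sq.sq_zero a.left b.left (congrArg CommaMorphism.left w).symm
    let L : sq.ptT' ⟶ U := Over.homMk l (by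
      rw [← Over.w h, reassoc_of% hl2]; exact Over.w b)
    refine ⟨(yon S).map L, ?_, ?_⟩
    · rw [← ha, ← Functor.map_comp]; exact congrArg _ (Over.OverMorphism.ext hl1)
    · rw [← hb, ← Functor.map_comp]; exact congrArg _ (Over.OverMorphism.ext hl2)

theorem formallySmooth_chart {X Y : Sp S} {g : X ⟶ Y} {U V : Over S} {p : (yon S).obj U ⟶ X}
    {q : (yon S).obj V ⟶ Y} {h : U ⟶ V} (hp : RepWith @Etale p) (hq : RepWith @Etale q)
    (w : p ≫ g = (yon S).map h ≫ q) (hg : IsFormallySmoothMor g) : MoreMor.IsFormallySmoothHom h.left :=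
  (formallySmooth_yon_map h).1 (formallySmooth_of_comp (b := q)
    (formallyEtale_iff.1 (formallyEtale_of_etale hq)).2
    (w ▸ formallySmooth_comp (formallyEtale_iff.1 (formallyEtale_of_etale hp)).1 hg))

/-- Smooth iff locally of finite presentation and formally smooth. -/
theorem locP_smooth_iff {X Y : Sp S} (hX : IsAlgSpace X) (hY : IsAlgSpace Y) (g : X ⟶ Y) :
    LocP @Smooth g ↔ LocP @LocallyOfFinitePresentation g ∧ IsFormallySmoothMor g :=
  ⟨fun hg => ⟨fun U V p q h hp hq w => by have := hg p q h hp hq w; infer_instance,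
      isFormallySmoothMor_of_locP_smooth hX hY g hg⟩,
    fun ⟨h1, h2⟩ U V p q h hp hq w => (smooth_iff h.left).2 ⟨h1 p q h hp hq w, formallySmooth_chart hp hq w h2⟩⟩

end Groth.Agent.SmoothLift15
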