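import Mathlib.RingTheory.Finiteness.ModuleFinitePresentation
import Mathlib.RingTheory.IntegralClosure.IsIntegralClosure.Basic
import Mathlib.Algebra.Module.Torsion.Basic
import Mathlib.RingTheory.Ideal.Over
import Mathlib.RingTheory.Localization.Ideal

/-!
Gluing Zariski-local lifts along a square-zero thickening, algebraic part: a square-zero `A`-algebra extension of
`A ⧸ I` (`I ^ 2 = 0`) which is finitely presented modulo `I` and splits locally on `A` splits.
-/

set_option autoImplicit false

universe u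

namespace Groth.Agent.SmoothLift15

variable {R D : Type u} [CommRing R] [CommRing D] [Algebra R D]

/-- A square-zero augmentation ideal of a finitely presented algebra is a finitely presented module. -/
theorem finitePresentation_ker [Algebra.FinitePresentation R D] (ε : D →ₐ[R] R)
    (hε : RingHom.ker ε ^ 2 = ⊥) : Module.FinitePresentation R (RingHom.ker ε) := by
  have : Algebra.IsIntegral R D := ⟨fun x => by
    refine ⟨(Polynomial.X - Polynomial.C (ε x)) ^ 2, (Polynomial.monic_X_sub_C _).pow 2, ?_⟩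
    have h : (x - algebraMap R D (ε x)) ∈ RingHom.ker ε := by
      rw [RingHom.mem_ker, map_sub, AlgHom.commutes]
      exact sub_self _
    have h2 := Ideal.pow_mem_pow h 2
    rw [hε, Ideal.mem_bot] at h2
    simpa using h2⟩
  have : Module.Finite R D := Algebra.IsIntegral.finite
  have : Module.FinitePresentation R D := .of_finite_of_finitePresentation R D
  refine Module.finitePresentation_of_split_exact ((RingHom.ker ε).restrictScalars R).subtype ε.toLinearMap
    (Algebra.linearMap R D) (LinearMap.ext fun r => ε.commutes r) Subtype.val_injective ?_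
  intro x
  exact ⟨fun h => ⟨⟨x, h⟩, rfl⟩, fun ⟨y, hy⟩ => hy ▸ y.2⟩

variable {A B : Type u} [CommRing A] [CommRing B] [Algebra A B] (I : Ideal A) (π : B →ₐ[A] A ⧸ I)

theorem algebraMap_mem_ker {i : A} (hi : i ∈ I) : algebraMap A B i ∈ RingHom.ker π := by
  rw [RingHom.mem_ker, AlgHom.commutes]
  exact Ideal.Quotient.eq_zero_iff_mem.2 hi

theorem exists_algebraMap_of_mem_map (hπ2 : RingHom.ker π ^ 2 = ⊥) {x : B} (hx : x ∈ I.map (algebraMap A B)) :
    ∃ i ∈ I, algebraMap A B i = x := by
  induction hx using Submodule.span_induction with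
  | mem x hx => exact hx
  | zero => exact ⟨0, I.zero_mem, map_zero _⟩
  | add x y _ _ hx hy =>
    obtain ⟨i, hi, rfl⟩ := hx
    obtain ⟨j, hj, rfl⟩ := hy
    exact ⟨i + j, I.add_mem hi hj, map_add _ _ _⟩
  | smul b x _ hx =>
    obtain ⟨i, hi, rfl⟩ := hx
    obtain ⟨a, ha⟩ := Ideal.Quotient.mk_surjective (π b)
    have hb : b - algebraMap A B a ∈ RingHom.ker π := by
      rw [RingHom.mem_ker, map_sub, AlgHom.commutes, ← ha]
      exact sub_self _
    have h0 := Ideal.mul_mem_mul hb (algebraMap_mem_ker I π hi)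
    rw [← pow_two, hπ2, Ideal.mem_bot, sub_mul, ← map_mul, sub_eq_zero] at h0
    exact ⟨a * i, I.mul_mem_left a hi, h0.symm⟩

/-- The augmentation of `B` modulo `I`. -/
noncomputable def augment (hπ2 : RingHom.ker π ^ 2 = ⊥) : (B ⧸ I.map (algebraMap A B)) →ₐ[A] A ⧸ I :=
  Ideal.Quotient.liftₐ _ π fun x hx => by
    obtain ⟨i, hi, rfl⟩ := exists_algebraMap_of_mem_map I π hπ2 hx
    exact algebraMap_mem_ker I π hi

theorem augment_mk (hπ2 : RingHom.ker π ^ 2 = ⊥) (b : B) : augment I π hπ2 (Ideal.Quotient.mk _ b) = π b := rfl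

/-- A linear splitting gives a section. -/
theorem section_of_splitting (hπ2 : RingHom.ker π ^ 2 = ⊥) (hinj : Function.Injective (algebraMap A B))
    (t : LinearMap.ker (augment I π hπ2).toLinearMap →ₗ[A] B) (htπ : ∀ x, π (t x) = 0)
    (htq : ∀ x, Ideal.Quotient.mk _ (t x) = (x : B ⧸ I.map (algebraMap A B))) :
    ∃ σ : B →ₐ[A] A, ∀ b, Ideal.Quotient.mk I (σ b) = π b := by
  have hex : ∀ b, ∃ a, ∃ x, b = algebraMap A B a + t x := by
    intro b
    obtain ⟨a, ha⟩ := Ideal.Quotient.mk_surjective (π b)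
    have hj : π (b - algebraMap A B a) = 0 := by
      rw [map_sub, AlgHom.commutes, ← ha]
      exact sub_self _
    let x : LinearMap.ker (augment I π hπ2).toLinearMap :=
      ⟨Ideal.Quotient.mk _ (b - algebraMap A B a), by
        rw [LinearMap.mem_ker, AlgHom.toLinearMap_apply, augment_mk, hj]⟩
    obtain ⟨i, -, hi⟩ := exists_algebraMap_of_mem_map I π hπ2
      (Ideal.Quotient.eq.1 (htq x).symm)
    refine ⟨a + i, x, ?_⟩
    rw [map_add, hi]
    ring
  choose f x hf using hex
  have huniq : ∀ a z b, b = algebraMap A B a + t z → f b = a := by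
    intro a z b hb
    have h1 : algebraMap A B (f b - a) = t (z - x b) := by
      rw [map_sub, map_sub]
      linear_combination (hf b).symm.trans hb
    have h2 : f b - a ∈ I := by
      rw [← Ideal.Quotient.eq_zero_iff_mem, ← Ideal.Quotient.algebraMap_eq, ← π.commutes, h1, htπ]
    have h3 : z - x b = 0 := Subtype.ext (by
      rw [← htq, ← h1, Submodule.coe_zero, Ideal.Quotient.eq_zero_iff_mem]
      exact Ideal.mem_map_of_mem _ h2)
    rw [h3, map_zero, ← map_zero (algebraMap A B)] at h1
    exact sub_eq_zero.1 (hinj h1)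
  refine ⟨{ toFun := f, map_one' := huniq 1 0 1 (by simp), map_zero' := huniq 0 0 0 (by simp),
            map_add' := fun b c => huniq _ (x b + x c) _ (by
              rw [map_add (algebraMap A B), map_add]
              linear_combination hf b + hf c),
            map_mul' := fun b c => huniq _ (f b • x c + f c • x b) _ (by
              have h0 := Ideal.mul_mem_mul (I := RingHom.ker π) (J := RingHom.ker π) (htπ (x b)) (htπ (x c))
              rw [← pow_two, hπ2, Ideal.mem_bot] at h0
              rw [map_add, map_smul, map_smul, Algebra.smul_def, Algebra.smul_def, map_mul]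
              conv_lhs => rw [hf b, hf c]
              linear_combination h0),
            commutes' := fun a => huniq a 0 _ (by simp) }, fun b => ?_⟩
  change Ideal.Quotient.mk I (f b) = π b
  conv_rhs => rw [hf b, map_add, AlgHom.commutes, htπ, add_zero]
  rfl

/-- Local sections glue. -/
theorem exists_section (hπ2 : RingHom.ker π ^ 2 = ⊥)
    [Algebra.FinitePresentation (A ⧸ I) (B ⧸ I.map (algebraMap A B))]
    (hloc : ∀ m : Ideal A, m.IsMaximal → ∃ g ∉ m, ∃ σ : B →ₐ[A] Localization.Away g,
      ∀ b, π b = 0 → σ b ∈ I.map (algebraMap A (Localization.Away g))) :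
    ∃ σ : B →ₐ[A] A, ∀ b, Ideal.Quotient.mk I (σ b) = π b := by
  classical
  -- the structure map is injective
  have hinj : Function.Injective (algebraMap A B) := by
    rw [injective_iff_map_eq_zero]
    intro a ha
    let T : Ideal A := Submodule.annihilator (A ∙ a)
    have hT : T = ⊤ := by
      by_contra hne
      obtain ⟨m, hm, hTm⟩ := Ideal.exists_le_maximal T hne
      obtain ⟨g, hg, σ, -⟩ := hloc m hm
      have h0 : algebraMap A (Localization.Away g) a = 0 := by rw [← σ.commutes, ha, map_zero]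
      obtain ⟨⟨_, k, rfl⟩, hk⟩ := (IsLocalization.map_eq_zero_iff (Submonoid.powers g) _ a).1 h0
      exact hg (hm.isPrime.mem_of_pow_mem k (hTm ((Submodule.mem_annihilator_span_singleton a _).2 hk)))
    have h1 : (1 : A) ∈ T := by rw [hT]; exact Submodule.mem_top
    simpa using (Submodule.mem_annihilator_span_singleton a (1 : A)).1 h1
  -- the augmented algebra modulo `I`
  let ε₀ : B ⧸ I.map (algebraMap A B) →+* A ⧸ I := Ideal.Quotient.lift _ π.toRingHom fun x hx => by
    obtain ⟨i, hi, rfl⟩ := exists_algebraMap_of_mem_map I π hπ2 hx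
    exact algebraMap_mem_ker I π hi
  let ε : B ⧸ I.map (algebraMap A B) →ₐ[A ⧸ I] A ⧸ I := { ε₀ with
    commutes' := fun r => by
      obtain ⟨a, rfl⟩ := Ideal.Quotient.mk_surjective r
      exact π.commutes a }
  have hεmk : ∀ b, ε (Ideal.Quotient.mk _ b) = π b := fun b => rfl
  have hε : RingHom.ker ε ^ 2 = ⊥ := by
    rw [pow_two, eq_bot_iff]
    refine Ideal.mul_le.2 fun x hx y hy => ?_
    obtain ⟨b, rfl⟩ := Ideal.Quotient.mk_surjective x
    obtain ⟨c, rfl⟩ := Ideal.Quotient.mk_surjective y
    have h0 := Ideal.mul_mem_mul (I := RingHom.ker π) (J := RingHom.ker π) (r := b) (s := c) hx hy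
    rw [← pow_two, hπ2, Ideal.mem_bot] at h0
    rw [← map_mul, h0, map_zero]
    exact Submodule.zero_mem _
  haveI := finitePresentation_ker ε hε
  -- the kernel is a module over `A ⧸ I`
  let J : Submodule A B := (RingHom.ker π).restrictScalars A
  have hT : Module.IsTorsionBySet A J (I : Set A) := fun x ⟨i, hi⟩ => by
    have h0 := Ideal.mul_mem_mul (algebraMap_mem_ker I π hi) (x.2 : (x : B) ∈ RingHom.ker π)
    rw [← pow_two, hπ2, Ideal.mem_bot] at h0
    refine Subtype.ext ?_
    change i • (x : B) = 0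
    rw [Algebra.smul_def, h0]
  letI : Module (A ⧸ I) J := hT.module
  let Q := RingHom.ker ε
  let q : J →ₗ[A ⧸ I] Q :=
    { toFun := fun x => ⟨Ideal.Quotient.mk _ (x : B), x.2⟩
      map_add' := fun x y => Subtype.ext (map_add _ _ _)
      map_smul' := fun r x => by
        obtain ⟨a, rfl⟩ := Ideal.Quotient.mk_surjective r
        refine Subtype.ext ?_
        change Ideal.Quotient.mk _ (a • (x : B)) = Ideal.Quotient.mk I a • Ideal.Quotient.mk _ (x : B)
        rw [Algebra.smul_def, Algebra.smul_def, map_mul]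
        rfl }
  have hq : Function.Surjective q := by
    rintro ⟨y, hy⟩
    obtain ⟨b, rfl⟩ := Ideal.Quotient.mk_surjective y
    exact ⟨⟨b, hy⟩, rfl⟩
  have hker : ∀ x : J, q x = 0 → ∃ i ∈ I, algebraMap A B i = x := fun x hx =>
    exists_algebraMap_of_mem_map I π hπ2 (Ideal.Quotient.eq_zero_iff_mem.1 (congrArg Subtype.val hx))
  obtain ⟨n, k, p, rel, hp, hrel⟩ := Module.FinitePresentation.exists_fin' (A ⧸ I) Q
  -- elements admitting a scaled splitting
  let 𝔞 : Ideal A :=
    { carrier := {c | ∃ t : Q →ₗ[A ⧸ I] J, ∀ x, q (t x) = Ideal.Quotient.mk I c • x}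
      zero_mem' := ⟨0, fun x => by simp⟩
      add_mem' := fun {a b} ⟨s, hs⟩ ⟨t, ht⟩ => ⟨s + t, fun x => by
        rw [LinearMap.add_apply, map_add, hs, ht, map_add, add_smul]⟩
      smul_mem' := fun a b ⟨t, ht⟩ => ⟨Ideal.Quotient.mk I a • t, fun x => by
        rw [LinearMap.smul_apply, map_smul, ht, smul_smul, smul_eq_mul, map_mul]⟩ }
  have h𝔞 : 𝔞 = ⊤ := by
    by_contra hne
    obtain ⟨m, hm, hle⟩ := Ideal.exists_le_maximal 𝔞 hne
    obtain ⟨g, hg, σ, hσ⟩ := hloc m hm
    have hlift : ∀ i : Fin n, ∃ (N : ℕ) (x : J),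
        q x = Ideal.Quotient.mk I (g ^ N) • p (Pi.single i 1) ∧ σ x = 0 := by
      intro i
      obtain ⟨x, hx⟩ := hq (p (Pi.single i 1))
      obtain ⟨⟨⟨a, ha⟩, ⟨_, N, rfl⟩⟩, hN⟩ :=
        (IsLocalization.mem_map_algebraMap_iff (Submonoid.powers g) _).1 (hσ x x.2)
      dsimp only at hN
      refine ⟨N, ⟨g ^ N • (x : B) - algebraMap A B a,
        Submodule.sub_mem _ (Submodule.smul_mem J _ x.2) (algebraMap_mem_ker I π ha)⟩, ?_, ?_⟩
      · rw [← hx, ← map_smul]
        refine Subtype.ext ?_
        change Ideal.Quotient.mk _ (g ^ N • (x : B) - algebraMap A B a) = Ideal.Quotient.mk _ (g ^ N • (x : B))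
        rw [map_sub, Ideal.Quotient.eq_zero_iff_mem.2 (Ideal.mem_map_of_mem _ ha), sub_zero]
      · change σ (g ^ N • (x : B) - algebraMap A B a) = 0
        rw [map_sub, map_smul, AlgHom.commutes, Algebra.smul_def, ← hN, mul_comm, sub_self]
    choose N x hx hx0 using hlift
    -- a common exponent
    let M := Finset.univ.sup N
    let y : Fin n → J := fun i => Ideal.Quotient.mk I (g ^ (M - N i)) • x i
    have hy : ∀ i, q (y i) = Ideal.Quotient.mk I (g ^ M) • p (Pi.single i 1) := fun i => by
      rw [map_smul, hx, smul_smul, ← map_mul, ← pow_add, Nat.sub_add_cancel (Finset.le_sup (Finset.mem_univ i))]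
    let t₀ := Fintype.linearCombination (A ⧸ I) y
    have hqt : ∀ v, q (t₀ v) = Ideal.Quotient.mk I (g ^ M) • p v := by
      intro v
      conv_rhs => rw [pi_eq_sum_univ' v, map_sum, Finset.smul_sum]
      rw [Fintype.linearCombination_apply, map_sum]
      refine Finset.sum_congr rfl fun i _ => ?_
      rw [map_smul, hy, map_smul, smul_comm]
    have hσt : ∀ v, σ (t₀ v : B) = 0 := by
      intro v
      rw [Fintype.linearCombination_apply, Submodule.coe_sum, map_sum]
      refine Finset.sum_eq_zero fun i _ => ?_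
      obtain ⟨a, ha⟩ := Ideal.Quotient.mk_surjective (v i)
      simp only [y, smul_smul]
      rw [← ha, ← map_mul]
      change σ ((a * g ^ (M - N i)) • (x i : B)) = 0
      rw [map_smul, hx0, smul_zero]
    have hrelkill : ∀ l : Fin k, ∃ L : ℕ, Ideal.Quotient.mk I (g ^ L) • t₀ (rel (Pi.single l 1)) = 0 := by
      intro l
      have h0 : q (t₀ (rel (Pi.single l 1))) = 0 := by
        rw [hqt, hrel.apply_apply_eq_zero, smul_zero]
      obtain ⟨i, -, hi⟩ := hker _ h0
      have h1 : algebraMap A (Localization.Away g) i = 0 := by rw [← σ.commutes, hi, hσt]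
      obtain ⟨⟨_, L, rfl⟩, hL⟩ := (IsLocalization.map_eq_zero_iff (Submonoid.powers g) _ i).1 h1
      refine ⟨L, Subtype.ext ?_⟩
      change g ^ L • (t₀ (rel (Pi.single l 1)) : B) = 0
      rw [← hi, Algebra.smul_def, ← map_mul, hL, map_zero]
    choose L hL using hrelkill
    let L' := Finset.univ.sup L
    let t₁ := Ideal.Quotient.mk I (g ^ L') • t₀
    have ht₁ : LinearMap.ker p ≤ LinearMap.ker t₁ := by
      rw [hrel.linearMap_ker_eq]
      rintro _ ⟨w, rfl⟩
      rw [LinearMap.mem_ker]
      conv_lhs => rw [pi_eq_sum_univ' w]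
      rw [map_sum, map_sum]
      refine Finset.sum_eq_zero fun l _ => ?_
      have e : g ^ L' = g ^ (L' - L l) * g ^ L l := by
        rw [← pow_add, Nat.sub_add_cancel (Finset.le_sup (Finset.mem_univ l) : L l ≤ L')]
      rw [map_smul, map_smul, LinearMap.smul_apply, e, map_mul, mul_smul, hL, smul_zero, smul_zero]
    obtain ⟨t, ht⟩ : ∃ t : Q →ₗ[A ⧸ I] J, ∀ v, t (p v) = t₁ v := by
      refine ⟨(LinearMap.ker p).liftQ t₁ ht₁ ∘ₗ (LinearMap.quotKerEquivOfSurjective p hp).symm.toLinearMap,
        fun v => ?_⟩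
      rw [LinearMap.comp_apply, LinearEquiv.coe_coe, LinearMap.quotKerEquivOfSurjective_symm_apply,
        Submodule.liftQ_apply]
    refine hg (hm.isPrime.mem_of_pow_mem (L' + M) (hle ⟨t, fun z => ?_⟩))
    obtain ⟨v, rfl⟩ := hp z
    rw [ht, LinearMap.smul_apply, map_smul, hqt, smul_smul, ← map_mul, ← pow_add]
  obtain ⟨t, ht⟩ : ∃ t : Q →ₗ[A ⧸ I] J, ∀ x, q (t x) = x := by
    obtain ⟨t, ht⟩ := h𝔞 ▸ (Submodule.mem_top : (1 : A) ∈ (⊤ : Ideal A))
    exact ⟨t, fun x => by rw [ht, map_one, one_smul]⟩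
  refine section_of_splitting I π hπ2 hinj
    { toFun := fun z => (t ⟨z.1, z.2⟩ : B)
      map_add' := fun z w => by
        rw [← Submodule.coe_add, ← map_add]
        rfl
      map_smul' := fun c z => by
        rw [RingHom.id_apply]
        refine Eq.trans ?_ (show ((Ideal.Quotient.mk I c • t ⟨z.1, z.2⟩ : J) : B) = c • (t ⟨z.1, z.2⟩ : B) from rfl)
        rw [← map_smul]
        refine congrArg (fun w => (t w : B)) (Subtype.ext ?_)
        change c • z.1 = Ideal.Quotient.mk I c • z.1
        obtain ⟨b, hb⟩ := Ideal.Quotient.mk_surjective z.1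
        rw [← hb, Algebra.smul_def, Algebra.smul_def]
        rfl } (fun z => (t ⟨z.1, z.2⟩).2) (fun z => congrArg Subtype.val (ht ⟨z.1, z.2⟩))

end Groth.Agent.SmoothLift15
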