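import Groth.Agent.Lib.SmoothLift15.Algebra
import Mathlib.RingTheory.Flat.FaithfullyFlat.Algebra

/-!
Sections of square-zero extensions descend along faithfully flat algebras.
-/

set_option autoImplicit false

universe u

open TensorProduct

namespace Groth.Agent.SmoothLift15

variable {A B : Type u} [CommRing A] [CommRing B] [Algebra A B] (I : Ideal A) (π : B →ₐ[A] A ⧸ I)

theorem tmul_eq_zero_of_mem_map {E M : Type u} [CommRing E] [Algebra A E] [AddCommGroup M] [Module A M]
    (hM : ∀ i ∈ I, ∀ m : M, i • m = 0) {e : E} (he : e ∈ I.map (algebraMap A E)) (m : M) :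
    e ⊗ₜ[A] m = 0 := by
  induction he using Submodule.span_induction with
  | mem x hx =>
    obtain ⟨i, hi, rfl⟩ := hx
    rw [Algebra.algebraMap_eq_smul_one, TensorProduct.smul_tmul, hM i hi, TensorProduct.tmul_zero]
  | zero => exact TensorProduct.zero_tmul _ _
  | add x y _ _ hx hy => rw [TensorProduct.add_tmul, hx, hy, add_zero]
  | smul c x _ hx =>
    have : (c • x) ⊗ₜ[A] m = c • (x ⊗ₜ[A] m) := rfl
    rw [this, hx, smul_zero]

/-- Sections descend along faithfully flat algebras. -/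
theorem exists_section_of_flat (hπ2 : RingHom.ker π ^ 2 = ⊥)
    [Algebra.FinitePresentation (A ⧸ I) (B ⧸ I.map (algebraMap A B))]
    (E : Type u) [CommRing E] [Algebra A E] [Module.FaithfullyFlat A E]
    (σ : E ⊗[A] B →ₐ[E] E) (hσ : ∀ b, π b = 0 → σ (1 ⊗ₜ b) ∈ I.map (algebraMap A E)) :
    ∃ σ : B →ₐ[A] A, ∀ b, Ideal.Quotient.mk I (σ b) = π b := by
  classical
  have hσa : ∀ a, σ (1 ⊗ₜ algebraMap A B a) = algebraMap A E a := fun a => by
    rw [← Algebra.TensorProduct.tmul_one_eq_one_tmul]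
    exact σ.commutes _
  have hinj : Function.Injective (algebraMap A B) := by
    rw [injective_iff_map_eq_zero]
    intro a ha
    refine FaithfulSMul.algebraMap_injective A E ?_
    rw [← hσa, ha, TensorProduct.tmul_zero, map_zero, map_zero]
  let D := B ⧸ I.map (algebraMap A B)
  let ε₀ := (augment I π hπ2).toRingHom
  let ε : D →ₐ[A ⧸ I] A ⧸ I := { ε₀ with
    commutes' := fun r => by
      obtain ⟨a, rfl⟩ := Ideal.Quotient.mk_surjective r
      exact π.commutes a }
  have hεmk : ∀ b, ε (Ideal.Quotient.mk _ b) = π b := fun b => rfl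
  have hε : RingHom.ker ε ^ 2 = ⊥ := by
    rw [pow_two, eq_bot_iff]
    refine Ideal.mul_le.2 fun x hx y hy => ?_
    obtain ⟨b, rfl⟩ := Ideal.Quotient.mk_surjective x
    obtain ⟨c, rfl⟩ := Ideal.Quotient.mk_surjective y
    have h0 := Ideal.mul_mem_mul (I := RingHom.ker π) (J := RingHom.ker π) (r := b) (s := c) hx hy
    rw [← pow_two, hπ2, Ideal.mem_bot] at h0
    rw [← map_mul, h0, map_zero]
    exact Submodule.zero_mem _
  haveI := finitePresentation_ker ε hε
  have hDkill : ∀ i ∈ I, ∀ m : D, i • m = 0 := fun i hi m => by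
    obtain ⟨b, rfl⟩ := Ideal.Quotient.mk_surjective m
    rw [← Ideal.Quotient.mkₐ_eq_mk A, ← map_smul, Algebra.smul_def]
    exact Ideal.Quotient.eq_zero_iff_mem.2 (Ideal.mul_mem_right _ _ (Ideal.mem_map_of_mem _ hi))
  let Q := LinearMap.ker (augment I π hπ2).toLinearMap
  let J := LinearMap.ker π.toLinearMap
  let q : J →ₗ[A] Q := ((Ideal.Quotient.mkₐ A _).toLinearMap.comp J.subtype).codRestrict Q fun x => x.2
  have hker : ∀ x : J, q x = 0 → ∃ i ∈ I, algebraMap A B i = x := fun x hx =>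
    exists_algebraMap_of_mem_map I π hπ2 (Ideal.Quotient.eq_zero_iff_mem.1 (congrArg Subtype.val hx))
  have hqs : Function.Surjective q := by
    rintro ⟨y, hy⟩
    obtain ⟨b, rfl⟩ := Ideal.Quotient.mk_surjective y
    exact ⟨⟨b, hy⟩, rfl⟩
  have hJT : Module.IsTorsionBySet A J (I : Set A) := fun x ⟨i, hi⟩ => by
    have h0 := Ideal.mul_mem_mul (algebraMap_mem_ker I π hi) (show (x : B) ∈ RingHom.ker π from x.2)
    rw [← pow_two, hπ2, Ideal.mem_bot] at h0
    refine Subtype.ext ?_
    change i • (x : B) = 0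
    rw [Algebra.smul_def, h0]
  letI : Module (A ⧸ I) J := hJT.module
  -- a presentation
  obtain ⟨n, k, p₀, rel, hp, hrel⟩ := Module.FinitePresentation.exists_fin' (A ⧸ I) (RingHom.ker ε)
  let toQ : RingHom.ker ε → Q := fun z => ⟨z.1, z.2⟩
  have htoQ_smul : ∀ (a : A) (z : RingHom.ker ε), toQ (Ideal.Quotient.mk I a • z) = a • toQ z := fun a z => by
    refine Subtype.ext ?_
    change Ideal.Quotient.mk I a • z.1 = a • z.1
    obtain ⟨b, hb⟩ := Ideal.Quotient.mk_surjective z.1
    rw [← hb, Algebra.smul_def, Algebra.smul_def]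
    rfl
  let toQh : RingHom.ker ε →+ Q := AddMonoidHom.mk' toQ fun _ _ => rfl
  choose y hy using fun i : Fin n => hqs (toQ (p₀ (Pi.single i 1)))
  choose a ha using fun (l : Fin k) (i : Fin n) => Ideal.Quotient.mk_surjective (rel (Pi.single l 1) i)
  have hrelsum : ∀ l, ∑ i, a l i • toQ (p₀ (Pi.single i 1)) = 0 := by
    intro l
    have h0 : p₀ (rel (Pi.single l 1)) = 0 := hrel.apply_apply_eq_zero _
    rw [pi_eq_sum_univ' (rel (Pi.single l 1)), map_sum] at h0
    have h1 := congrArg toQh h0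
    rw [map_sum, map_zero] at h1
    refine Eq.trans (Finset.sum_congr rfl fun i _ => ?_) h1
    rw [map_smul, ← ha l i]
    exact (htoQ_smul _ _).symm
  -- the comparison into `E ⊗ B`
  let Λ : J →ₗ[A] E ⊗[A] B :=
    { toFun := fun j => 1 ⊗ₜ (j : B) - σ (1 ⊗ₜ (j : B)) ⊗ₜ 1
      map_add' := fun x y => by
        simp only [Submodule.coe_add, TensorProduct.tmul_add, map_add, TensorProduct.add_tmul]
        abel
      map_smul' := fun c x => by
        have h := (σ.toLinearMap.restrictScalars A).map_smul c ((1 : E) ⊗ₜ[A] (x : B))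
        simp only [RingHom.id_apply, Submodule.coe_smul, TensorProduct.tmul_smul, smul_sub]
        rw [show σ (c • ((1 : E) ⊗ₜ[A] (x : B))) = c • σ (1 ⊗ₜ (x : B)) from h, TensorProduct.smul_tmul'
          (R := A) c (σ (1 ⊗ₜ (x : B))) (1 : B)] }
  have hΛ0 : ∀ x : J, q x = 0 → Λ x = 0 := fun x hx => by
    obtain ⟨i, -, hi⟩ := hker x hx
    change (1 : E) ⊗ₜ[A] (x : B) - σ (1 ⊗ₜ (x : B)) ⊗ₜ[A] (1 : B) = 0
    rw [← hi, hσa, Algebra.TensorProduct.tmul_one_eq_one_tmul, sub_self]
  have hΛr : ∀ x : J, ∃ w : E ⊗[A] J, J.subtype.lTensor E w = Λ x := fun x => by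
    have hex : Function.Exact J.subtype π.toLinearMap := LinearMap.exact_subtype_ker_map _
    refine (Module.Flat.lTensor_exact E hex (Λ x)).1 ?_
    change π.toLinearMap.lTensor E (1 ⊗ₜ (x : B) - σ (1 ⊗ₜ (x : B)) ⊗ₜ 1) = 0
    rw [map_sub, LinearMap.lTensor_tmul, LinearMap.lTensor_tmul, AlgHom.toLinearMap_apply,
      AlgHom.toLinearMap_apply, map_one, show π (x : B) = 0 from x.2, TensorProduct.tmul_zero,
      tmul_eq_zero_of_mem_map I (fun i hi m => ?_) (hσ _ x.2), sub_zero]
    rw [Algebra.smul_def, Ideal.Quotient.algebraMap_eq, Ideal.Quotient.eq_zero_iff_mem.2 hi, zero_mul]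
  choose w hw using fun i => hΛr (y i)
  have hJinj : Function.Injective (J.subtype.lTensor E) :=
    Module.Flat.lTensor_preserves_injective_linearMap _ J.injective_subtype
  have hwq : ∀ i, q.lTensor E (w i) = 1 ⊗ₜ q (y i) := by
    intro i
    refine Module.Flat.lTensor_preserves_injective_linearMap Q.subtype Q.injective_subtype ?_
    rw [← LinearMap.lTensor_comp_apply, LinearMap.lTensor_tmul,
      show Q.subtype ∘ₗ q = (Ideal.Quotient.mkₐ A _).toLinearMap.comp J.subtype from rfl,
      LinearMap.lTensor_comp_apply, hw]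
    change (Ideal.Quotient.mkₐ A _).toLinearMap.lTensor E (1 ⊗ₜ (y i : B) - σ (1 ⊗ₜ (y i : B)) ⊗ₜ 1) = _
    rw [map_sub, LinearMap.lTensor_tmul, LinearMap.lTensor_tmul,
      tmul_eq_zero_of_mem_map I hDkill (hσ _ (y i).2), sub_zero]
    rfl
  have hwrel : ∀ l, ∑ i, a l i • w i = 0 := fun l => hJinj (by
    rw [map_zero, map_sum]
    refine Eq.trans (Finset.sum_congr rfl fun i _ => ?_) ((map_sum Λ _ _).symm.trans (hΛ0 (∑ i, a l i • y i) ?_))
    · rw [map_smul, map_smul, hw]
    · rw [map_sum]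
      refine Eq.trans (Finset.sum_congr rfl fun i _ => ?_) (hrelsum l)
      rw [map_smul, hy])
  let G : (Fin n → J) →ₗ[A] (Fin k → J) := LinearMap.pi fun l => ∑ i, a l i • LinearMap.proj i
  let z : E ⊗[A] (Fin n → J) := ∑ i, (LinearMap.single A (fun _ => J) i).lTensor E (w i)
  have hGz : G.lTensor E z = 0 := by
    have hG : ∀ i, G ∘ₗ LinearMap.single A (fun _ => J) i =
        ∑ l, a l i • LinearMap.single A (fun _ => J) l := fun i => by
      refine LinearMap.ext fun x => funext fun l => ?_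
      simp [G, Pi.single_apply, Finset.sum_apply]
    simp only [z, map_sum, ← LinearMap.lTensor_comp_apply, hG]
    simp only [← LinearMap.coe_lTensorHom, map_sum, map_smul, LinearMap.coe_sum, Finset.sum_apply,
      LinearMap.smul_apply]
    rw [Finset.sum_comm]
    refine Finset.sum_eq_zero fun l _ => ?_
    simp only [← map_smul, ← map_sum, hwrel, map_zero]
  obtain ⟨z₀, hz₀⟩ : ∃ z₀, (LinearMap.ker G).subtype.lTensor E z₀ = z := by
    have hexG : Function.Exact (LinearMap.ker G).subtype G := LinearMap.exact_subtype_ker_map G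
    have h := Module.Flat.lTensor_exact (R := A) E (N := LinearMap.ker G) (N' := Fin n → J) (N'' := Fin k → J) hexG
    exact (h z).1 hGz
  let Ψ : LinearMap.ker G →ₗ[A] (Fin n → Q) :=
    (LinearMap.pi fun i => q ∘ₗ LinearMap.proj i) ∘ₗ (LinearMap.ker G).subtype
  obtain ⟨⟨v, hvG⟩, hv⟩ : (fun i => toQ (p₀ (Pi.single i 1))) ∈ LinearMap.range Ψ := by
    rw [← Submodule.Quotient.mk_eq_zero]
    refine (Module.FaithfullyFlat.one_tmul_eq_zero_iff (R := A) (M := (Fin n → Q) ⧸ LinearMap.range Ψ) (A := E) _).1 ?_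
    have h1 : Ψ.lTensor E z₀ = 1 ⊗ₜ (fun i => toQ (p₀ (Pi.single i 1))) := by
      rw [LinearMap.lTensor_comp_apply, hz₀]
      simp only [z, map_sum, ← LinearMap.lTensor_comp_apply]
      conv_rhs => rw [show (fun i => toQ (p₀ (Pi.single i 1))) =
        ∑ i, LinearMap.single A (fun _ => Q) i (q (y i)) from funext fun i => by
          simp [hy, Finset.sum_apply, Pi.single_apply], TensorProduct.tmul_sum]
      refine Finset.sum_congr rfl fun i _ => ?_
      rw [← LinearMap.lTensor_tmul, ← hwq, ← LinearMap.lTensor_comp_apply]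
      congr 2
      refine LinearMap.ext fun x => funext fun j => ?_
      rcases eq_or_ne j i with rfl | hji <;> simp [*]
    rw [← Submodule.mkQ_apply, ← LinearMap.lTensor_tmul, ← h1, ← LinearMap.lTensor_comp_apply,
      show (LinearMap.range Ψ).mkQ ∘ₗ Ψ = 0 from LinearMap.ext fun x =>
        (Submodule.Quotient.mk_eq_zero _).2 (LinearMap.mem_range_self Ψ x), LinearMap.lTensor_zero]
    rfl
  -- the splitting
  let t₁ := Fintype.linearCombination (A ⧸ I) v
  have ht₁ : LinearMap.ker p₀ ≤ LinearMap.ker t₁ := by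
    rw [hrel.linearMap_ker_eq]
    rintro _ ⟨c, rfl⟩
    rw [LinearMap.mem_ker, pi_eq_sum_univ' c, map_sum, map_sum]
    refine Finset.sum_eq_zero fun l _ => ?_
    rw [map_smul, map_smul, Fintype.linearCombination_apply]
    have : ∑ i, rel (Pi.single l 1) i • v i = 0 := by
      have hGl : ∑ i, a l i • v i = 0 := by
        refine Eq.trans ?_ (congrFun (LinearMap.mem_ker.1 hvG) l)
        simp [G, Finset.sum_apply]
      refine Eq.trans (Finset.sum_congr rfl fun i _ => ?_) hGl
      rw [← ha l i]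
      rfl
    rw [this, smul_zero]
  let t₂ : RingHom.ker ε →ₗ[A ⧸ I] J :=
    (LinearMap.ker p₀).liftQ t₁ ht₁ ∘ₗ (LinearMap.quotKerEquivOfSurjective p₀ hp).symm.toLinearMap
  have ht₂ : ∀ u, t₂ (p₀ u) = t₁ u := fun u => by
    rw [LinearMap.comp_apply, LinearEquiv.coe_coe, LinearMap.quotKerEquivOfSurjective_symm_apply,
      Submodule.liftQ_apply]
  have ht₂q : ∀ u, q (t₂ u) = toQ u := by
    intro u
    obtain ⟨c, rfl⟩ := hp u
    rw [ht₂, Fintype.linearCombination_apply, map_sum]
    conv_rhs => rw [pi_eq_sum_univ' c, map_sum]; change toQh _; rw [map_sum]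
    refine Finset.sum_congr rfl fun i _ => ?_
    obtain ⟨b, hb⟩ := Ideal.Quotient.mk_surjective (c i)
    rw [← hb, p₀.map_smul]
    change q (b • v i) = toQ (Ideal.Quotient.mk I b • p₀ (Pi.single i 1))
    rw [q.map_smul, htoQ_smul]
    exact congrArg (b • ·) (congrFun hv i)
  refine section_of_splitting I π hπ2 hinj
    { toFun := fun z => (t₂ ⟨z.1, z.2⟩ : B)
      map_add' := fun z w => by
        rw [← Submodule.coe_add, ← map_add]
        rfl
      map_smul' := fun c z => by
        rw [RingHom.id_apply]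
        refine Eq.trans ?_ (show ((Ideal.Quotient.mk I c • t₂ ⟨z.1, z.2⟩ : J) : B) = c • (t₂ ⟨z.1, z.2⟩ : B) from rfl)
        rw [← map_smul]
        refine congrArg (fun w => (t₂ w : B)) (Subtype.ext ?_)
        exact (congrArg Subtype.val (htoQ_smul c ⟨z.1, z.2⟩)).symm }
    (fun z => (t₂ ⟨z.1, z.2⟩).2) (fun z => congrArg Subtype.val (ht₂q ⟨z.1, z.2⟩))

end Groth.Agent.SmoothLift15
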