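import Groth.Agent.Lib.SmoothLift15.AlgebraFlat
import Groth.Agent.Lib.SmoothLift15.FinPres
import Groth.Agent.Lib.ModDesc12.Alg
import Groth.Agent.Lib.AlgSpDescent.FormallyLift
import Mathlib.RingTheory.Etale.Basic
import Mathlib.RingTheory.Finiteness.Descent

/-!
The first order neighbourhood of an affine point in a space with an etale affine chart, and the lift it gives:
for an étale chart `Spec C ⟶ P` with `C` smooth over `A` and a faithfully flat étale `A`-algebra `E` over which
a point `Spec (A ⧸ I) ⟶ P` lifts to the chart, the point extends to `Spec A`.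
-/

set_option autoImplicit false

universe u

open CategoryTheory CategoryTheory.Limits AlgebraicGeometry AlgSp Opposite MorphismProperty
open scoped TensorProduct

namespace Groth.Agent.SmoothLift15

open Groth.Agent.AlgSpDescent

variable {S : Scheme.{u}} {A : Type u} [CommRing A]

/-- The spectrum of an algebra, over `S`. -/
noncomputable abbrev pt (str : Spec (.of A) ⟶ S) (D : Type u) [CommRing D] [Algebra A D] : Over S :=
  Over.mk (Spec.map (CommRingCat.ofHom (algebraMap A D)) ≫ str)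

/-- The map of spectra of an algebra map. -/
noncomputable abbrev ptHom (str : Spec (.of A) ⟶ S) {D D' : Type u} [CommRing D] [CommRing D'] [Algebra A D]
    [Algebra A D'] (φ : D →ₐ[A] D') : pt str D' ⟶ pt str D :=
  Over.homMk (Spec.map (CommRingCat.ofHom φ.toRingHom)) (by
    change Spec.map _ ≫ Spec.map _ ≫ str = Spec.map _ ≫ str
    rw [← Spec.map_comp_assoc, ← CommRingCat.ofHom_comp]
    exact congrArg (fun h => Spec.map (CommRingCat.ofHom h) ≫ str) (RingHom.ext φ.commutes))

/-- The structure map of the spectrum of an algebra. -/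
noncomputable abbrev ptMap (str : Spec (.of A) ⟶ S) (D : Type u) [CommRing D] [Algebra A D] :
    pt str D ⟶ Over.mk str :=
  Over.homMk (Spec.map (CommRingCat.ofHom (algebraMap A D))) rfl

variable {str : Spec (.of A) ⟶ S}

theorem ptHom_comp {D D' D'' : Type u} [CommRing D] [CommRing D'] [CommRing D''] [Algebra A D] [Algebra A D']
    [Algebra A D''] (φ : D →ₐ[A] D') (ψ : D' →ₐ[A] D'') :
    ptHom str ψ ≫ ptHom str φ = ptHom str (ψ.comp φ) :=
  Over.OverMorphism.ext ((Spec.map_comp _ _).symm.trans rfl)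

theorem ptHom_id (D : Type u) [CommRing D] [Algebra A D] : ptHom str (AlgHom.id A D) = 𝟙 _ :=
  Over.OverMorphism.ext (Spec.map_id _)

theorem ptHom_ptMap {D D' : Type u} [CommRing D] [CommRing D'] [Algebra A D] [Algebra A D'] (φ : D →ₐ[A] D') :
    ptHom str φ ≫ ptMap str D = ptMap str D' :=
  Over.OverMorphism.ext ((Spec.map_comp _ _).symm.trans
    (congrArg (fun h => Spec.map (CommRingCat.ofHom h)) (RingHom.ext φ.commutes)))

theorem exists_ptHom_eq {D D' : Type u} [CommRing D] [CommRing D'] [Algebra A D] [Algebra A D']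
    (u : pt str D' ⟶ pt str D) (hu : u ≫ ptMap str D = ptMap str D') :
    ∃ φ : D →ₐ[A] D', ptHom str φ = u := by
  obtain ⟨φ, hφ⟩ := Spec.map_surjective u.left
  have h := congrArg CommaMorphism.left hu
  change u.left ≫ Spec.map _ = Spec.map _ at h
  rw [← hφ, ← Spec.map_comp] at h
  exact ⟨{ φ.hom with commutes' := fun r => ConcreteCategory.congr_hom (Spec.map_injective h) r },
    Over.OverMorphism.ext hφ⟩

theorem ptHom_injective {D D' : Type u} [CommRing D] [CommRing D'] [Algebra A D] [Algebra A D']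
    {φ ψ : D →ₐ[A] D'} (h : ptHom str φ = ptHom str ψ) : φ = ψ :=
  AlgHom.ext fun x => ConcreteCategory.congr_hom (Spec.map_injective (congrArg CommaMorphism.left h)) x

section Lift

variable {C : Type u} [CommRing C] [Algebra A C] {P : Sp S} (prT : P ⟶ (yon S).obj (Over.mk str))
  (p : (yon S).obj (pt str C) ⟶ P) (hp : RepWith @Etale p) (hpr : p ≫ prT = (yon S).map (ptMap str C))
include hp hpr

/-- Lifts of square-zero extensions to an étale chart. -/
theorem existsUnique_lift {D D₀ : Type u} [CommRing D] [Algebra A D] [CommRing D₀] [Algebra A D₀]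
    (πD : D →ₐ[A] D₀) (hsurj : Function.Surjective πD) (hK : RingHom.ker πD ^ 2 = ⊥)
    (g : (yon S).obj (pt str D) ⟶ P) (hg : g ≫ prT = (yon S).map (ptMap str D))
    (u₀ : C →ₐ[A] D₀) (hu₀ : (yon S).map (ptHom str u₀) ≫ p = (yon S).map (ptHom str πD) ≫ g) :
    (∃ φ : C →ₐ[A] D, πD.comp φ = u₀ ∧ (yon S).map (ptHom str φ) ≫ p = g) ∧
    ∀ φ φ' : C →ₐ[A] D, πD.comp φ = πD.comp φ' →
      (yon S).map (ptHom str φ) ≫ p = (yon S).map (ptHom str φ') ≫ p → φ = φ' := by
  let e : (D ⧸ RingHom.ker πD) ≃ₐ[A] D₀ := Ideal.quotientKerAlgEquivOfSurjective hsurj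
  have he : e.symm.toAlgHom.comp πD = Ideal.Quotient.mkₐ A (RingHom.ker πD) := by
    refine AlgHom.ext fun x => e.injective ?_
    change e (e.symm (πD x)) = e (Ideal.Quotient.mk _ x)
    rw [AlgEquiv.apply_symm_apply]
    rfl
  have het := AlgSpDescent.formallyEtale_of_etale hp
  let j : Over.mk (Spec.map (CommRingCat.ofHom (Ideal.Quotient.mk (RingHom.ker πD))) ≫
      Spec.map (CommRingCat.ofHom (algebraMap A D)) ≫ str) ⟶ pt str D :=
    Over.homMk (Spec.map (CommRingCat.ofHom (Ideal.Quotient.mk (RingHom.ker πD)))) rfl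
  let ι : Over.mk (Spec.map (CommRingCat.ofHom (Ideal.Quotient.mk (RingHom.ker πD))) ≫
      Spec.map (CommRingCat.ofHom (algebraMap A D)) ≫ str) ⟶ pt str D₀ :=
    Over.homMk (Spec.map (CommRingCat.ofHom e.symm.toAlgHom.toRingHom)) (by
      change Spec.map _ ≫ Spec.map _ ≫ str = Spec.map _ ≫ Spec.map _ ≫ str
      rw [← Spec.map_comp_assoc, ← Spec.map_comp_assoc]
      exact congrArg (fun h => Spec.map (CommRingCat.ofHom h) ≫ str) (RingHom.ext fun a => e.symm.commutes a))
  have hι : ι ≫ ptHom str πD = j := Over.OverMorphism.ext ((Spec.map_comp _ _).symm.trans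
    (congrArg (fun h => Spec.map (CommRingCat.ofHom h)) (RingHom.ext fun x => DFunLike.congr_fun he x)))
  let top := (yon S).map ι ≫ (yon S).map (ptHom str u₀)
  have w : top ≫ p = (yon S).map j ≫ g := by
    rw [Category.assoc, hu₀, ← Functor.map_comp_assoc, hι]
  obtain ⟨l, ⟨hl1, hl2⟩, hl⟩ := het ⟨D, RingHom.ker πD, hK, Spec.map (CommRingCat.ofHom (algebraMap A D)) ≫ str,
    top, g, w⟩
  constructor
  · obtain ⟨L, rfl⟩ := (yon S).map_surjective l
    have hLC : L ≫ ptMap str C = ptMap str D := (yon S).map_injective (by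
      rw [Functor.map_comp, ← hpr, ← Category.assoc, hl2, hg])
    obtain ⟨φ, rfl⟩ := exists_ptHom_eq L hLC
    refine ⟨φ, ?_, hl2⟩
    have h1 : j ≫ ptHom str φ = ι ≫ ptHom str u₀ := (yon S).map_injective (by
      rw [Functor.map_comp, Functor.map_comp]; exact hl1)
    have h2 := congrArg CommaMorphism.left h1
    change Spec.map _ ≫ Spec.map _ = Spec.map _ ≫ Spec.map _ at h2
    rw [← Spec.map_comp, ← Spec.map_comp] at h2
    refine AlgHom.ext fun x => ?_
    have h3 := ConcreteCategory.congr_hom (Spec.map_injective h2) x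
    change Ideal.Quotient.mk _ (φ x) = e.symm (u₀ x) at h3
    have h4 := congrArg e h3
    rwa [AlgEquiv.apply_symm_apply] at h4
  · intro φ φ' h1 h2
    have hjj : ∀ ψ : C →ₐ[A] D, j ≫ ptHom str ψ = ι ≫ ptHom str (πD.comp ψ) := fun ψ => by
      rw [← ptHom_comp]
      exact (congrArg (· ≫ ptHom str ψ) hι).symm.trans (Category.assoc _ _ _)
    have hjf : ∀ ψ : C →ₐ[A] D, (yon S).map j ≫ ((yon S).map (ptHom str ψ) ≫ p) =
        ((yon S).map ι ≫ (yon S).map (ptHom str (πD.comp ψ))) ≫ p := fun ψ => by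
      rw [← Functor.map_comp_assoc, hjj, Functor.map_comp]
    have hy : ∀ ψ : C →ₐ[A] D, (yon S).map j ≫ (yon S).map (ptHom str ψ) =
        (yon S).map ι ≫ (yon S).map (ptHom str (πD.comp ψ)) := fun ψ =>
      ((yon S).map_comp _ _).symm.trans ((congrArg (yon S).map (hjj ψ)).trans ((yon S).map_comp _ _))
    have hy' : (yon S).map j ≫ (yon S).map (ptHom str φ') =
        (yon S).map ι ≫ (yon S).map (ptHom str (πD.comp φ)) := by rw [hy φ', h1]
    have key := formallyEtale_iff.1 het |>.2 ⟨D, RingHom.ker πD, hK,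
      Spec.map (CommRingCat.ofHom (algebraMap A D)) ≫ str,
      (yon S).map ι ≫ (yon S).map (ptHom str (πD.comp φ)), (yon S).map (ptHom str φ) ≫ p, (hjf φ).symm⟩
      ((yon S).map (ptHom str φ)) ((yon S).map (ptHom str φ'))
      (hy φ) rfl hy' h2.symm
    exact ptHom_injective ((yon S).map_injective key)

end Lift

/-- Algebra maps out of the base are unique. -/
theorem algHom_quot_ext_self {E D : Type u} [CommRing E] [Semiring D] [Algebra E D] (φ ψ : E →ₐ[E] D) : φ = ψ :=
  AlgHom.ext fun e => (φ.commutes e).trans (ψ.commutes e).symm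

/-- The algebra map of reductions. -/
noncomputable abbrev quotMap (I : Ideal A) (E : Type u) [CommRing E] [Algebra A E] :
    (A ⧸ I) →ₐ[A] E ⧸ I.map (algebraMap A E) :=
  Ideal.Quotient.liftₐ I (Algebra.ofId A _) fun _ ha =>
    Ideal.Quotient.eq_zero_iff_mem.2 (Ideal.mem_map_of_mem _ ha)

/-- The reduction of a faithfully flat étale algebra. -/
theorem etale_quotMap (I : Ideal A) (E : Type u) [CommRing E] [Algebra A E] [Module.FaithfullyFlat A E]
    [Algebra.Etale A E] :
    letI := (quotMap I E).toRingHom.toAlgebra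
    Algebra.Etale (A ⧸ I) (E ⧸ I.map (algebraMap A E)) ∧
      Module.FaithfullyFlat (A ⧸ I) (E ⧸ I.map (algebraMap A E)) := by
  letI := (quotMap I E).toRingHom.toAlgebra
  haveI : IsScalarTower A (A ⧸ I) (E ⧸ I.map (algebraMap A E)) :=
    IsScalarTower.of_algebraMap_eq fun a => ((quotMap I E).commutes a).symm
  let Φ : (A ⧸ I) ⊗[A] E →ₐ[A ⧸ I] E ⧸ I.map (algebraMap A E) :=
    Algebra.TensorProduct.lift (Algebra.ofId _ _) (Ideal.Quotient.mkₐ A _) (fun _ _ => .all _ _)
  have hΦ : Function.Bijective Φ := by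
    let inc : E →ₐ[A] (A ⧸ I) ⊗[A] E := Algebra.TensorProduct.includeRight
    have hinc : ∀ x ∈ I.map (algebraMap A E), inc x = 0 := fun x hx => by
      refine (Ideal.map_le_iff_le_comap.2 fun i hi => ?_ : I.map (algebraMap A E) ≤ RingHom.ker inc) hx
      rw [Ideal.mem_comap, RingHom.mem_ker, AlgHom.commutes, IsScalarTower.algebraMap_apply A (A ⧸ I),
        Ideal.Quotient.algebraMap_eq, Ideal.Quotient.eq_zero_iff_mem.2 hi, map_zero]
    have hinv : ∀ z, (Ideal.Quotient.liftₐ _ inc hinc) (Φ z) = z := fun z => by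
      induction z using TensorProduct.induction_on with
      | zero => simp
      | tmul r e =>
        obtain ⟨a, rfl⟩ := Ideal.Quotient.mk_surjective r
        have h : Φ (Ideal.Quotient.mk I a ⊗ₜ e) = Ideal.Quotient.mk _ (algebraMap A E a * e) := by
          simp only [Φ, Algebra.TensorProduct.lift_tmul, Algebra.ofId_apply]
          rfl
        rw [h]
        change inc (algebraMap A E a * e) = _
        rw [map_mul, AlgHom.commutes]
        simp [inc, IsScalarTower.algebraMap_apply A (A ⧸ I) ((A ⧸ I) ⊗[A] E)]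
      | add x y hx hy => rw [map_add, map_add, hx, hy]
    refine ⟨Function.LeftInverse.injective hinv, fun x => ?_⟩
    obtain ⟨e, rfl⟩ := Ideal.Quotient.mk_surjective x
    exact ⟨1 ⊗ₜ e, by simp [Φ]⟩
  exact ⟨Algebra.Etale.of_equiv (AlgEquiv.ofBijective Φ hΦ),
    Module.FaithfullyFlat.of_linearEquiv _ _ (AlgEquiv.ofBijective Φ hΦ).symm.toLinearEquiv⟩

/-- The base change map with the factors exchanged. -/
theorem bijective_lift_comm (E B' : Type u) [CommRing E] [Algebra A E] [CommRing B'] [Algebra A B'] [Algebra E B']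
    [IsScalarTower A E B'] {B : Type u} [CommRing B] [Algebra A B] (v : B →ₐ[A] B')
    (hm : Function.Bijective (Algebra.TensorProduct.lift (Algebra.ofId E B') v (fun _ _ => .all _ _)))
    [Algebra B B'] [IsScalarTower A B B'] (hv : ∀ b, algebraMap B B' b = v b) :
    Function.Bijective (Algebra.TensorProduct.lift (Algebra.ofId B B') ((Algebra.ofId E B').restrictScalars A)
      (fun _ _ => .all _ _)) := by
  have h : ⇑(Algebra.TensorProduct.lift (Algebra.ofId B B') ((Algebra.ofId E B').restrictScalars A)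
      (fun _ _ => .all _ _)) = ⇑(Algebra.TensorProduct.lift (Algebra.ofId E B') v (fun _ _ => .all _ _)) ∘
      ⇑(Algebra.TensorProduct.comm A B E) := funext fun z => by
    induction z using TensorProduct.induction_on with
    | zero => simp
    | tmul b e => simp [Algebra.ofId_apply, hv, mul_comm]
    | add x y hx hy => simp only [Function.comp_apply, map_add] at hx hy ⊢; rw [hx, hy]
  rw [h]
  exact hm.comp (Algebra.TensorProduct.comm A B E).bijective

/-- Finite presentation modulo `I` descends. -/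
theorem finitePresentation_descend (I : Ideal A) (E B' : Type u) [CommRing E] [Algebra A E]
    [Module.FaithfullyFlat A E] [Algebra.Etale A E] [CommRing B'] [Algebra A B'] [Algebra E B']
    [IsScalarTower A E B'] {B : Type u} [CommRing B] [Algebra A B] (v : B →ₐ[A] B')
    (hm : Function.Bijective (Algebra.TensorProduct.lift (Algebra.ofId E B') v (fun _ _ => .all _ _)))
    [Algebra.FinitePresentation (E ⧸ I.map (algebraMap A E)) (B' ⧸ (I.map (algebraMap A E)).map (algebraMap E B'))] :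
    Algebra.FinitePresentation (A ⧸ I) (B ⧸ I.map (algebraMap A B)) := by
  letI := (quotMap I E).toRingHom.toAlgebra
  haveI : IsScalarTower A (A ⧸ I) (E ⧸ I.map (algebraMap A E)) :=
    IsScalarTower.of_algebraMap_eq fun a => ((quotMap I E).commutes a).symm
  haveI := (etale_quotMap I E).2
  set R' := E ⧸ I.map (algebraMap A E)
  set D := B ⧸ I.map (algebraMap A B)
  set D' := B' ⧸ (I.map (algebraMap A E)).map (algebraMap E B')
  letI : Algebra (A ⧸ I) D' := ((algebraMap R' D').comp (algebraMap (A ⧸ I) R')).toAlgebra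
  haveI : IsScalarTower (A ⧸ I) R' D' := IsScalarTower.of_algebraMap_eq fun _ => rfl
  have hI' : (I.map (algebraMap A E)).map (algebraMap E B') = I.map (algebraMap A B') := by
    rw [Ideal.map_map, ← IsScalarTower.algebraMap_eq]
  let g₀ : D →+* D' := Ideal.quotientMap _ v.toRingHom (by
    rw [hI', Ideal.map_le_iff_le_comap, Ideal.comap_comap,
      show v.toRingHom.comp (algebraMap A B) = algebraMap A B' from v.comp_algebraMap]
    exact Ideal.le_comap_map)
  let g : D →ₐ[A ⧸ I] D' := { g₀ with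
    commutes' := fun r => by
      obtain ⟨a, rfl⟩ := Ideal.Quotient.mk_surjective r
      change Ideal.Quotient.mk _ (v (algebraMap A B a)) = Ideal.Quotient.mk _ (algebraMap E B' (algebraMap A E a))
      rw [v.commutes, IsScalarTower.algebraMap_apply A E B'] }
  let Ψ : R' ⊗[A ⧸ I] D →ₐ[R'] D' := Algebra.TensorProduct.lift (Algebra.ofId R' D') g (fun _ _ => .all _ _)
  have hΨ : ∀ e b, Ψ (Ideal.Quotient.mk _ e ⊗ₜ Ideal.Quotient.mk _ b) =
      Ideal.Quotient.mk _ (algebraMap E B' e * v b) := fun e b => by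
    simp only [Ψ, Algebra.TensorProduct.lift_tmul, Algebra.ofId_apply]
    rfl
  let m := AlgEquiv.ofBijective _ hm
  haveI : IsScalarTower A (A ⧸ I) D := IsScalarTower.of_algebraMap_eq fun _ => rfl
  let Φ : E ⊗[A] B →ₐ[A] R' ⊗[A ⧸ I] D := Algebra.TensorProduct.lift
    (((Algebra.TensorProduct.includeLeft : R' →ₐ[A ⧸ I] R' ⊗[A ⧸ I] D).restrictScalars A).comp
      (Ideal.Quotient.mkₐ A (I.map (algebraMap A E))))
    (((Algebra.TensorProduct.includeRight : D →ₐ[A ⧸ I] R' ⊗[A ⧸ I] D).restrictScalars A).comp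
      (Ideal.Quotient.mkₐ A (I.map (algebraMap A B)))) (fun _ _ => .all _ _)
  let W : B' →+* R' ⊗[A ⧸ I] D := Φ.toRingHom.comp m.symm.toAlgHom.toRingHom
  have hWm : ∀ z, W (m z) = Φ z := fun z => by
    change Φ (m.symm (m z)) = Φ z
    rw [AlgEquiv.symm_apply_apply]
  have hW : ∀ x ∈ (I.map (algebraMap A E)).map (algebraMap E B'), W x = 0 := fun x hx => by
    rw [hI'] at hx
    refine (Ideal.map_le_iff_le_comap.2 fun i hi => ?_ : I.map (algebraMap A B') ≤ RingHom.ker W) hx
    have h : algebraMap A B' i = m (algebraMap A (E ⊗[A] B) i) := by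
      simp [m, IsScalarTower.algebraMap_apply A E B', Algebra.ofId_apply]
    rw [Ideal.mem_comap, RingHom.mem_ker, h, hWm, AlgHom.commutes,
      IsScalarTower.algebraMap_apply A (A ⧸ I), Ideal.Quotient.algebraMap_eq,
      Ideal.Quotient.eq_zero_iff_mem.2 hi, map_zero]
  have hinv : ∀ z, Ideal.Quotient.lift _ W hW (Ψ z) = z := fun z => by
    induction z using TensorProduct.induction_on with
    | zero => simp
    | tmul r d =>
      obtain ⟨e, rfl⟩ := Ideal.Quotient.mk_surjective r
      obtain ⟨b, rfl⟩ := Ideal.Quotient.mk_surjective d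
      rw [hΨ, Ideal.Quotient.lift_mk, show algebraMap E B' e * v b = m (e ⊗ₜ b) by simp [m, Algebra.ofId_apply], hWm]
      simp [Φ]
      rfl
    | add x y hx hy => rw [map_add, map_add, hx, hy]
  have hsur : Function.Surjective Ψ := fun x => by
    obtain ⟨x, rfl⟩ := Ideal.Quotient.mk_surjective x
    obtain ⟨z, rfl⟩ := hm.2 x
    induction z using TensorProduct.induction_on with
    | zero => exact ⟨0, by simp⟩
    | tmul e b => exact ⟨_, (hΨ e b).trans (by simp [Algebra.ofId_apply])⟩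
    | add x y hx hy =>
      obtain ⟨a, ha⟩ := hx
      obtain ⟨c, hc⟩ := hy
      exact ⟨a + c, by simp only [map_add, ha, hc]⟩
  haveI : Algebra.FinitePresentation R' (R' ⊗[A ⧸ I] D) :=
    Algebra.FinitePresentation.equiv
      (AlgEquiv.ofBijective Ψ ⟨Function.LeftInverse.injective hinv, hsur⟩).symm
  exact Algebra.FinitePresentation.of_finitePresentation_tensorProduct_of_faithfullyFlat R'

/-- Maps to spectra factor through the spectrum of global functions. -/
theorem exists_toSpecΓ_fac {V : Scheme.{u}} {R : Type u} [CommRing R] (a : V ⟶ Spec (.of R)) :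
    ∃ x : R →+* Γ(V, ⊤), a = V.toSpecΓ ≫ Spec.map (CommRingCat.ofHom x) := by
  refine ⟨((Scheme.ΓSpecIso (.of R)).inv ≫ a.appTop).hom, ext_of_isAffine ?_⟩
  rw [CommRingCat.ofHom_hom, Scheme.Hom.comp_appTop, Scheme.toSpecΓ_appTop, Scheme.ΓSpecIso_naturality,
    Iso.hom_inv_id_assoc]

/-- The factorisation through global functions is unique. -/
theorem toSpecΓ_congr {V : Scheme.{u}} {R : Type u} [CommRing R] {x y : R →+* Γ(V, ⊤)}
    (h : V.toSpecΓ ≫ Spec.map (CommRingCat.ofHom x) = V.toSpecΓ ≫ Spec.map (CommRingCat.ofHom y)) : x = y := by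
  have h' := congrArg Scheme.Hom.appTop h
  rw [Scheme.Hom.comp_appTop, Scheme.Hom.comp_appTop, Scheme.toSpecΓ_appTop, Scheme.ΓSpecIso_naturality,
    Scheme.ΓSpecIso_naturality] at h'
  exact congrArg CommRingCat.Hom.hom ((cancel_epi (Scheme.ΓSpecIso (.of R)).hom).1 h')

/-- The first order neighbourhood of a point is finitely presented modulo the ideal. -/
theorem finitePresentation_quot_sq {E C' : Type u} [CommRing E] [CommRing C'] [Algebra E C']
    [Algebra.FinitePresentation E C'] (J : Ideal E) (φ : C' →ₐ[E] E ⧸ J) (hφ : Function.Surjective φ) :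
    Algebra.FinitePresentation (E ⧸ J)
      ((C' ⧸ RingHom.ker φ ^ 2) ⧸ J.map (algebraMap E (C' ⧸ RingHom.ker φ ^ 2))) := by
  refine finitePresentation_firstOrder J φ hφ
    ((Ideal.Quotient.mkₐ E _).comp (Ideal.Quotient.mkₐ E (RingHom.ker φ ^ 2))) (fun r => ?_) ?_
  · obtain ⟨r, rfl⟩ := Ideal.Quotient.mk_surjective r
    obtain ⟨r, rfl⟩ := Ideal.Quotient.mk_surjective r
    exact ⟨r, rfl⟩
  change RingHom.ker ((Ideal.Quotient.mk (J.map (algebraMap E (C' ⧸ RingHom.ker φ ^ 2)))).comp (Ideal.Quotient.mk _)) = _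
  rw [← RingHom.comap_ker, Ideal.mk_ker,
    show algebraMap E (C' ⧸ RingHom.ker φ ^ 2) = (Ideal.Quotient.mk _).comp (algebraMap E C') from rfl,
    ← Ideal.map_map, Ideal.comap_map_of_surjective _ Ideal.Quotient.mk_surjective,
    ← RingHom.ker_eq_comap_bot, Ideal.mk_ker]

section Main

variable {I : Ideal A}

/-- Algebra maps out of the quotient `E ⧸ I E` are unique. -/
theorem algHom_quot_ext {E D : Type u} [CommRing E] [Algebra A E] [Semiring D] [Algebra E D] {J : Ideal E}
    (φ ψ : (E ⧸ J) →ₐ[E] D) : φ = ψ := by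
  refine AlgHom.ext fun x => ?_
  obtain ⟨e, rfl⟩ := Ideal.Quotient.mk_surjective x
  exact (φ.commutes e).trans (ψ.commutes e).symm

theorem algHom_quot_ext' {D : Type u} [Semiring D] [Algebra A D] (φ ψ : (A ⧸ I) →ₐ[A] D) : φ = ψ :=
  algHom_quot_ext (A := A) φ ψ

variable (I) in
/-- `g` is a map to `P` over the base which extends `s₀` along `πD`. -/
def ExtendsPt {P : Sp S} (prT : P ⟶ (yon S).obj (Over.mk str)) (s₀ : (yon S).obj (pt str (A ⧸ I)) ⟶ P)
    {D D₀ : Type u} [CommRing D] [CommRing D₀] [Algebra A D] [Algebra A D₀] (πD : D →ₐ[A] D₀)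
    (r : (A ⧸ I) →ₐ[A] D₀) (g : (yon S).obj (pt str D) ⟶ P) : Prop :=
  g ≫ prT = (yon S).map (ptMap str D) ∧ (yon S).map (ptHom str πD) ≫ g = (yon S).map (ptHom str r) ≫ s₀

variable (I) in
/-- Square-zero extensions of `E`-algebras with a map to `P` extending the point come uniquely from `B'`. -/
def IsUnivNbhd (E : Type u) [CommRing E] [Algebra A E] {P : Sp S} (prT : P ⟶ (yon S).obj (Over.mk str))
    (s₀ : (yon S).obj (pt str (A ⧸ I)) ⟶ P) {B' : Type u} [CommRing B'] [Algebra A B'] [Algebra E B']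
    [IsScalarTower A E B'] (πB : B' →ₐ[E] E ⧸ I.map (algebraMap A E)) (gB : (yon S).obj (pt str B') ⟶ P) : Prop :=
  ∀ {D D₀ : Type u} [CommRing D] [CommRing D₀] [Algebra A D] [Algebra A D₀] [Algebra E D]
    [Algebra E D₀] [IsScalarTower A E D] [IsScalarTower A E D₀] (πD : D →ₐ[E] D₀)
    (_ : Function.Surjective πD) (_ : RingHom.ker πD ^ 2 = ⊥) (r : (E ⧸ I.map (algebraMap A E)) →ₐ[E] D₀)
    (g : (yon S).obj (pt str D) ⟶ P)
    (_ : ExtendsPt I prT s₀ (πD.restrictScalars A) ((r.restrictScalars A).comp (quotMap I E)) g),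
    (∃ φ : B' →ₐ[E] D, πD.comp φ = r.comp πB ∧ (yon S).map (ptHom str (φ.restrictScalars A)) ≫ gB = g) ∧
    ∀ φ φ' : B' →ₐ[E] D, πD.comp φ = r.comp πB → πD.comp φ' = r.comp πB →
      (yon S).map (ptHom str (φ.restrictScalars A)) ≫ gB = (yon S).map (ptHom str (φ'.restrictScalars A)) ≫ gB →
      φ = φ'

variable {P : Sp S} {prT : P ⟶ (yon S).obj (Over.mk str)} {s₀ : (yon S).obj (pt str (A ⧸ I)) ⟶ P}

theorem extendsPt_comp {D D₀ D' D₀' : Type u} [CommRing D] [CommRing D₀] [CommRing D'] [CommRing D₀'] [Algebra A D]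
    [Algebra A D₀] [Algebra A D'] [Algebra A D₀'] (πD : D →ₐ[A] D₀) (πD' : D' →ₐ[A] D₀') (ψ : D →ₐ[A] D')
    (ψ₀ : D₀ →ₐ[A] D₀') (h : πD'.comp ψ = ψ₀.comp πD) (r : (A ⧸ I) →ₐ[A] D₀) (r' : (A ⧸ I) →ₐ[A] D₀')
    (g : (yon S).obj (pt str D) ⟶ P) (hg : ExtendsPt I prT s₀ πD r g) :
    ExtendsPt I prT s₀ πD' r' ((yon S).map (ptHom str ψ) ≫ g) := by
  refine ⟨by rw [Category.assoc, hg.1, ← Functor.map_comp, ptHom_ptMap], ?_⟩
  rw [← Functor.map_comp_assoc, ptHom_comp, h, ← ptHom_comp, Functor.map_comp_assoc, hg.2,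
    ← Functor.map_comp_assoc, ptHom_comp, algHom_quot_ext' (ψ₀.comp r) r']

theorem map_id_surjective_sq {E : Type u} [CommRing E] [Algebra A E] {M N : Type u} [CommRing M] [CommRing N]
    [Algebra A M] [Algebra A N] (f : M →ₐ[A] N) (hf : Function.Surjective f) (hf2 : RingHom.ker f ^ 2 = ⊥) :
    Function.Surjective (Algebra.TensorProduct.map (AlgHom.id E E) f) ∧
      RingHom.ker (Algebra.TensorProduct.map (AlgHom.id E E) f) ^ 2 = ⊥ := by
  refine ⟨fun z => ?_, ?_⟩
  · induction z using TensorProduct.induction_on with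
    | zero => exact ⟨0, map_zero _⟩
    | tmul e n =>
      obtain ⟨m, rfl⟩ := hf n
      exact ⟨e ⊗ₜ m, rfl⟩
    | add x y hx hy =>
      obtain ⟨a, rfl⟩ := hx
      obtain ⟨b, rfl⟩ := hy
      exact ⟨a + b, map_add _ _ _⟩
  · have h : RingHom.ker (Algebra.TensorProduct.map (AlgHom.id E E) f) =
        (RingHom.ker f).map (Algebra.TensorProduct.includeRight : M →ₐ[A] E ⊗[A] M) :=
      Algebra.TensorProduct.lTensor_ker f hf
    rw [h, ← Ideal.map_pow, hf2, Ideal.map_bot]

/-- The structure map of `E ⊗ (E ⧸ I E)`. -/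
noncomputable def quotIncl (I : Ideal A) (E : Type u) [CommRing E] [Algebra A E] :
    (E ⧸ I.map (algebraMap A E)) →ₐ[E] E ⊗[A] (E ⧸ I.map (algebraMap A E)) :=
  Ideal.Quotient.liftₐ _ (Algebra.ofId E _) fun e he => by
    change e ⊗ₜ[A] (1 : E ⧸ I.map (algebraMap A E)) = 0
    refine tmul_eq_zero_of_mem_map I (fun i hi m => ?_) he 1
    rw [Algebra.smul_def, IsScalarTower.algebraMap_apply A E (E ⧸ I.map (algebraMap A E)),
      Ideal.Quotient.algebraMap_eq, Ideal.Quotient.eq_zero_iff_mem.2 (Ideal.mem_map_of_mem _ hi), zero_mul]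

variable {E : Type u} [CommRing E] [Algebra A E]

theorem uniq_of_univ {B' : Type u} [CommRing B'] [Algebra A B'] [Algebra E B'] [IsScalarTower A E B']
    {πB : B' →ₐ[E] E ⧸ I.map (algebraMap A E)} {gB : (yon S).obj (pt str B') ⟶ P}
    (hExtB : ExtendsPt I prT s₀ (πB.restrictScalars A) (quotMap I E) gB) (univ : IsUnivNbhd I E prT s₀ πB gB)
    {M M₀ : Type u} [CommRing M] [CommRing M₀] [Algebra A M] [Algebra A M₀] (f : M →ₐ[A] M₀)
    (hf : Function.Surjective f) (hf2 : RingHom.ker f ^ 2 = ⊥)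
    (ψ : (E ⧸ I.map (algebraMap A E)) →ₐ[E] E ⊗[A] M₀) (φ φ' : B' →ₐ[E] E ⊗[A] M)
    (h1 : (Algebra.TensorProduct.map (AlgHom.id E E) f).comp φ = ψ.comp πB)
    (h2 : (Algebra.TensorProduct.map (AlgHom.id E E) f).comp φ' = ψ.comp πB)
    (heq : (yon S).map (ptHom str (φ.restrictScalars A)) ≫ gB = (yon S).map (ptHom str (φ'.restrictScalars A)) ≫ gB) :
    φ = φ' := by
  obtain ⟨hs, hk⟩ := map_id_surjective_sq (E := E) f hf hf2
  refine (univ _ hs hk ψ _ (extendsPt_comp (πB.restrictScalars A) _ (φ.restrictScalars A) (ψ.restrictScalars A)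
    ?_ (quotMap I E) _ gB hExtB)).2 φ φ' h1 h2 heq
  exact AlgHom.ext fun b => DFunLike.congr_fun h1 b

theorem exists_coaction {B' : Type u} [CommRing B'] [Algebra A B'] [Algebra E B'] [IsScalarTower A E B']
    (πB : B' →ₐ[E] E ⧸ I.map (algebraMap A E)) (hπB : Function.Surjective πB) (hπB2 : RingHom.ker πB ^ 2 = ⊥)
    (gB : (yon S).obj (pt str B') ⟶ P) (hExtB : ExtendsPt I prT s₀ (πB.restrictScalars A) (quotMap I E) gB)
    (univ : IsUnivNbhd I E prT s₀ πB gB) :
    ∃ ρ : B' →ₐ[E] E ⊗[A] B',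
      (Algebra.TensorProduct.lift (Algebra.ofId E B') (AlgHom.id A B') (fun _ _ => .all _ _)).comp ρ =
        AlgHom.id E B' ∧
      (Algebra.TensorProduct.map (AlgHom.id E E) (ρ.restrictScalars A)).comp ρ =
        (Algebra.TensorProduct.map (AlgHom.id E E)
          (Algebra.TensorProduct.includeRight : B' →ₐ[A] E ⊗[A] B')).comp ρ ∧
      (Algebra.TensorProduct.map (AlgHom.id E E) (πB.restrictScalars A)).comp ρ = (quotIncl I E).comp πB ∧
      (yon S).map (ptHom str (ρ.restrictScalars A)) ≫ gB =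
        (yon S).map (ptHom str (D := B') (D' := E ⊗[A] B') Algebra.TensorProduct.includeRight) ≫ gB := by
  let R' := E ⧸ I.map (algebraMap A E)
  let rE := quotMap I E
  let r₂ := quotIncl I E
  let incB : B' →ₐ[A] E ⊗[A] B' := Algebra.TensorProduct.includeRight
  let πEB : E ⊗[A] B' →ₐ[E] E ⊗[A] R' := Algebra.TensorProduct.map (AlgHom.id E E) (πB.restrictScalars A)
  obtain ⟨hπEBs, hπEB2⟩ := map_id_surjective_sq (E := E) (πB.restrictScalars A) hπB hπB2
  let gEB := (yon S).map (ptHom str (D := B') (D' := E ⊗[A] B') incB) ≫ gB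
  have hExt2 : ExtendsPt I prT s₀ (πEB.restrictScalars A) ((r₂.restrictScalars A).comp rE) gEB :=
    extendsPt_comp (D' := E ⊗[A] B') (D₀' := E ⊗[A] R') (πB.restrictScalars A) (πEB.restrictScalars A) incB
      Algebra.TensorProduct.includeRight (AlgHom.ext fun b => rfl) rE _ gB hExtB
  obtain ⟨⟨ρ, hρ1, hρ2⟩, -⟩ := univ πEB hπEBs hπEB2 r₂ gEB hExt2
  -- counit
  let μ : E ⊗[A] B' →ₐ[E] B' :=
    Algebra.TensorProduct.lift (Algebra.ofId E B') (AlgHom.id A B') (fun _ _ => .all _ _)
  let μ₀ : E ⊗[A] R' →ₐ[E] R' :=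
    Algebra.TensorProduct.lift (Algebra.ofId E R') (AlgHom.id A R') (fun _ _ => .all _ _)
  have hμπ : πB.comp μ = μ₀.comp πEB :=
    Algebra.TensorProduct.ext (algHom_quot_ext_self _ _) (AlgHom.ext fun b => by
      change πB (μ (1 ⊗ₜ b)) = μ₀ (1 ⊗ₜ πB b)
      simp [μ, μ₀])
  have hcounit : μ.comp ρ = AlgHom.id E B' := by
    refine (univ πB hπB hπB2 (AlgHom.id E R') gB hExtB).2 _ _ ?_ rfl ?_
    · rw [← AlgHom.comp_assoc, hμπ, AlgHom.comp_assoc, hρ1, ← AlgHom.comp_assoc,
        algHom_quot_ext (A := A) (μ₀.comp r₂) (AlgHom.id E R')]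
    · change (yon S).map (ptHom str ((μ.restrictScalars A).comp (ρ.restrictScalars A))) ≫ gB = _
      rw [← ptHom_comp, Functor.map_comp_assoc, hρ2, ← Functor.map_comp_assoc, ptHom_comp,
        show (μ.restrictScalars A).comp incB = AlgHom.id A B' from AlgHom.ext fun b => by simp [μ, incB]]
      rfl
  -- coassociativity
  let ρA : B' →ₐ[A] E ⊗[A] B' := ρ.restrictScalars A
  let mρ : E ⊗[A] B' →ₐ[E] E ⊗[A] (E ⊗[A] B') := Algebra.TensorProduct.map (AlgHom.id E E) ρA
  let mι : E ⊗[A] B' →ₐ[E] E ⊗[A] (E ⊗[A] B') := Algebra.TensorProduct.map (AlgHom.id E E) incB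
  have hcoassoc : mρ.comp ρ = mι.comp ρ := by
    let π₃ := Algebra.TensorProduct.map (AlgHom.id E E) (πEB.restrictScalars A)
    let inc₂ : E ⊗[A] B' →ₐ[A] E ⊗[A] (E ⊗[A] B') := Algebra.TensorProduct.includeRight
    let mr₂ : E ⊗[A] R' →ₐ[E] E ⊗[A] (E ⊗[A] R') := Algebra.TensorProduct.map (AlgHom.id E E) (r₂.restrictScalars A)
    let mi₀ : E ⊗[A] R' →ₐ[E] E ⊗[A] (E ⊗[A] R') := Algebra.TensorProduct.map (AlgHom.id E E)
      (Algebra.TensorProduct.includeRight : R' →ₐ[A] E ⊗[A] R')
    have h1 : π₃.comp mρ = mr₂.comp πEB :=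
      Algebra.TensorProduct.ext (algHom_quot_ext_self _ _) (AlgHom.ext fun b => by
        change π₃ (mρ (1 ⊗ₜ b)) = mr₂ (1 ⊗ₜ πB b)
        exact congrArg ((1 : E) ⊗ₜ[A] ·) (DFunLike.congr_fun hρ1 b))
    have h2 : π₃.comp mι = mi₀.comp πEB :=
      Algebra.TensorProduct.ext (algHom_quot_ext_self _ _) (AlgHom.ext fun b => rfl)
    refine uniq_of_univ hExtB univ (πEB.restrictScalars A) hπEBs hπEB2 (mr₂.comp r₂)
      _ _ ?_ ?_ ?_
    · rw [← AlgHom.comp_assoc, h1, AlgHom.comp_assoc, hρ1, AlgHom.comp_assoc]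
    · rw [← AlgHom.comp_assoc, h2, AlgHom.comp_assoc, hρ1, ← AlgHom.comp_assoc,
        algHom_quot_ext (A := A) (mi₀.comp r₂) (mr₂.comp r₂)]
    · change (yon S).map (ptHom str ((mρ.restrictScalars A).comp ρA)) ≫ gB =
        (yon S).map (ptHom str ((mι.restrictScalars A).comp ρA)) ≫ gB
      rw [← ptHom_comp, ← ptHom_comp, Functor.map_comp_assoc, Functor.map_comp_assoc, hρ2]
      simp only [gEB, ← Functor.map_comp_assoc, ptHom_comp]
      rw [show (mρ.restrictScalars A).comp incB = inc₂.comp ρA from AlgHom.ext fun b => rfl,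
        show (mι.restrictScalars A).comp incB = inc₂.comp incB from AlgHom.ext fun b => rfl,
        ← ptHom_comp, ← ptHom_comp, Functor.map_comp_assoc, Functor.map_comp_assoc, hρ2]
  exact ⟨ρ, hcounit, hcoassoc, hρ1, hρ2⟩

theorem mulMap_eq {N : Type u} [CommRing N] [Algebra A N] [Algebra E N] [IsScalarTower A E N] (z : E ⊗[A] N) :
    ModDesc12.mulMap (R := A) (S := E) (N := N) z =
      Algebra.TensorProduct.lift (Algebra.ofId E N) (AlgHom.id A N) (fun _ _ => .all _ _) z := by
  induction z using TensorProduct.induction_on with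
  | zero => simp
  | tmul e n => simp [Algebra.smul_def]
  | add x y hx hy => simp only [map_add, hx, hy]

theorem exists_descended [Module.FaithfullyFlat A E] {B' : Type u} [CommRing B'] [Algebra A B'] [Algebra E B']
    [IsScalarTower A E B'] (πB : B' →ₐ[E] E ⧸ I.map (algebraMap A E)) (hπB2 : RingHom.ker πB ^ 2 = ⊥)
    (ρ : B' →ₐ[E] E ⊗[A] B')
    (hcounit : (Algebra.TensorProduct.lift (Algebra.ofId E B') (AlgHom.id A B') (fun _ _ => .all _ _)).comp ρ =
        AlgHom.id E B')
    (hcoassoc : (Algebra.TensorProduct.map (AlgHom.id E E) (ρ.restrictScalars A)).comp ρ =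
        (Algebra.TensorProduct.map (AlgHom.id E E)
          (Algebra.TensorProduct.includeRight : B' →ₐ[A] E ⊗[A] B')).comp ρ)
    (hρ1 : (Algebra.TensorProduct.map (AlgHom.id E E) (πB.restrictScalars A)).comp ρ = (quotIncl I E).comp πB) :
    ∃ (B : Subalgebra A B') (π : B →ₐ[A] A ⧸ I),
      Function.Bijective (Algebra.TensorProduct.lift (Algebra.ofId E B') B.val (fun _ _ => .all _ _)) ∧
      (∀ b : B, ρ (b : B') = 1 ⊗ₜ (b : B')) ∧ (∀ b : B, quotMap I E (π b) = πB (b : B')) ∧
      RingHom.ker π ^ 2 = ⊥ := by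
  let R' := E ⧸ I.map (algebraMap A E)
  let rE := quotMap I E
  let r₂ := quotIncl I E
  let incB : B' →ₐ[A] E ⊗[A] B' := Algebra.TensorProduct.includeRight
  let ρA : B' →ₐ[A] E ⊗[A] B' := ρ.restrictScalars A
  -- the descended algebra
  let B : Subalgebra A B' := AlgHom.equalizer ρA incB
  have hBfix : Subalgebra.toSubmodule B = ModDesc12.fixed (R := A) (S := E) ρ.toLinearMap := by
    ext b
    rw [ModDesc12.mem_fixed]
    rfl
  let m : E ⊗[A] B →ₐ[E] B' :=
    Algebra.TensorProduct.lift (Algebra.ofId E B') B.val (fun _ _ => .all _ _)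
  have hm : Function.Bijective m := by
    have hb := ModDesc12.bijective_mult (R := A) (S := E) ρ.toLinearMap
      (fun n => (mulMap_eq _).trans (DFunLike.congr_fun hcounit n)) (fun n => DFunLike.congr_fun hcoassoc n)
    have heq : ⇑m = ⇑(ModDesc12.mult (S := E) (ModDesc12.fixed (R := A) (S := E) ρ.toLinearMap)) ∘
        ⇑((LinearEquiv.ofEq _ _ hBfix).lTensor E) := funext fun z => by
      induction z using TensorProduct.induction_on with
      | zero => simp
      | tmul e b =>
        simp only [Function.comp_apply, LinearEquiv.lTensor_tmul, ModDesc12.mult_tmul]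
        simp [m, Algebra.smul_def]
      | add x y hx hy => simp only [Function.comp_apply, map_add] at hx hy ⊢; rw [hx, hy]
    rw [heq]
    exact hb.comp ((LinearEquiv.ofEq _ _ hBfix).lTensor E).bijective
  -- its augmentation
  have hrE : Function.Injective rE := by
    rw [injective_iff_map_eq_zero]
    intro x hx
    obtain ⟨a, rfl⟩ := Ideal.Quotient.mk_surjective x
    change algebraMap A R' a = 0 at hx
    rw [IsScalarTower.algebraMap_apply A E R', Ideal.Quotient.algebraMap_eq, Ideal.Quotient.eq_zero_iff_mem] at hx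
    exact Ideal.Quotient.eq_zero_iff_mem.2 ((Ideal.comap_map_eq_self_of_faithfullyFlat (B := E) I).le hx)
  have hrange : ∀ b : B, πB (b : B') ∈ rE.range := by
    intro b
    let F := ModDesc12.fixed (R := A) (S := E) r₂.toLinearMap
    have hF : Function.Bijective (ModDesc12.mult (S := E) F) := by
      refine ModDesc12.bijective_mult r₂.toLinearMap (fun n => (mulMap_eq _).trans ?_) fun n => ?_
      · exact DFunLike.congr_fun (algHom_quot_ext (A := A)
          ((Algebra.TensorProduct.lift (Algebra.ofId E R') (AlgHom.id A R') (fun _ _ => .all _ _)).comp r₂)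
          (AlgHom.id E R')) n
      · exact DFunLike.congr_fun (algHom_quot_ext (A := A)
          ((Algebra.TensorProduct.map (AlgHom.id E E) (r₂.restrictScalars A)).comp r₂)
          ((Algebra.TensorProduct.map (AlgHom.id E E)
            (Algebra.TensorProduct.includeRight : R' →ₐ[A] E ⊗[A] R')).comp r₂)) n
    let rF : (A ⧸ I) →ₗ[A] F := rE.toLinearMap.codRestrict F fun x => by
      rw [ModDesc12.mem_fixed]
      exact DFunLike.congr_fun (algHom_quot_ext' ((r₂.restrictScalars A).comp rE)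
        ((Algebra.TensorProduct.includeRight : R' →ₐ[A] E ⊗[A] R').comp rE)) x
    have hsur : Function.Surjective rF := by
      rw [← Module.FaithfullyFlat.lTensor_surjective_iff_surjective A E]
      intro z
      obtain ⟨e, he⟩ := Ideal.Quotient.mk_surjective (ModDesc12.mult (S := E) F z)
      refine ⟨e ⊗ₜ 1, hF.1 ?_⟩
      rw [LinearMap.lTensor_tmul, ModDesc12.mult_tmul, ← he, Algebra.smul_def]
      change algebraMap E R' e * rE 1 = _
      rw [map_one, mul_one, Ideal.Quotient.algebraMap_eq]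
    have hb : πB (b : B') ∈ F := by
      rw [ModDesc12.mem_fixed]
      refine (DFunLike.congr_fun hρ1 (b : B')).symm.trans ?_
      change Algebra.TensorProduct.map (AlgHom.id E E) (πB.restrictScalars A) (ρA b) = _
      rw [show ρA b = incB b from b.2]
      rfl
    obtain ⟨x, hx⟩ := hsur ⟨_, hb⟩
    exact ⟨x, congrArg Subtype.val hx⟩
  let π : B →ₐ[A] A ⧸ I :=
    (AlgEquiv.ofInjective rE hrE).symm.toAlgHom.comp (((πB.restrictScalars A).comp B.val).codRestrict rE.range hrange)
  have hπ : ∀ b : B, rE (π b) = πB (b : B') := fun b =>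
    congrArg Subtype.val ((AlgEquiv.ofInjective rE hrE).apply_symm_apply
      ((((πB.restrictScalars A).comp B.val).codRestrict rE.range hrange) b))
  have hπ2 : RingHom.ker π ^ 2 = ⊥ := by
    rw [pow_two, eq_bot_iff]
    refine Ideal.mul_le.2 fun x hx y hy => ?_
    have hk : ∀ z : B, π z = 0 → (z : B') ∈ RingHom.ker πB := fun z hz => by
      rw [RingHom.mem_ker, ← hπ, hz, map_zero]
    have h := Ideal.mul_mem_mul (hk x hx) (hk y hy)
    rw [← pow_two, hπB2, Ideal.mem_bot] at h
    exact (Ideal.mem_bot).2 (Subtype.ext h)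
  exact ⟨B, π, hm, fun b => b.2, hπ, hπ2⟩

theorem exists_lift_of_univ (hI : I ^ 2 = ⊥) [Module.FaithfullyFlat A E] [Algebra.Etale A E]
    (hs₀ : s₀ ≫ prT = (yon S).map (ptMap str (A ⧸ I)))
    {B' : Type u} [CommRing B'] [Algebra A B'] [Algebra E B'] [IsScalarTower A E B']
    (πB : B' →ₐ[E] E ⧸ I.map (algebraMap A E)) (hπB : Function.Surjective πB) (hπB2 : RingHom.ker πB ^ 2 = ⊥)
    (gB : (yon S).obj (pt str B') ⟶ P) (hExtB : ExtendsPt I prT s₀ (πB.restrictScalars A) (quotMap I E) gB)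
    (univ : IsUnivNbhd I E prT s₀ πB gB)
    [Algebra.FinitePresentation (E ⧸ I.map (algebraMap A E)) (B' ⧸ (I.map (algebraMap A E)).map (algebraMap E B'))]
    (σ' : B' →ₐ[E] E) (hσ' : (Ideal.Quotient.mkₐ E _).comp σ' = πB) :
    ∃ ℓ : (yon S).obj (Over.mk str) ⟶ P,
      (yon S).map (ptMap str (A ⧸ I)) ≫ ℓ = s₀ ∧ ℓ ≫ prT = 𝟙 _ := by
  obtain ⟨ρ, hcounit, hcoassoc, hρ1, hρ2⟩ := exists_coaction πB hπB hπB2 gB hExtB univ
  obtain ⟨B, π, hm, hBρ, hπ, hπ2⟩ := exists_descended πB hπB2 ρ hcounit hcoassoc hρ1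
  let R' := E ⧸ I.map (algebraMap A E)
  let rE := quotMap I E
  let incB : B' →ₐ[A] E ⊗[A] B' := Algebra.TensorProduct.includeRight
  let ρA : B' →ₐ[A] E ⊗[A] B' := ρ.restrictScalars A
  let m : E ⊗[A] B →ₐ[E] B' :=
    Algebra.TensorProduct.lift (Algebra.ofId E B') B.val (fun _ _ => .all _ _)
  have hgB : gB ≫ prT = (yon S).map (ptMap str B') := hExtB.1
  haveI : Algebra.FinitePresentation (A ⧸ I) (B ⧸ I.map (algebraMap A B)) :=
    finitePresentation_descend I E B' B.val hm
  obtain ⟨σ₀, hσ₀⟩ := exists_section_of_flat I π hπ2 E (σ'.comp m) fun b hb => by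
    rw [← Ideal.Quotient.eq_zero_iff_mem]
    have h1 : m (1 ⊗ₜ b) = (b : B') := by simp [m]
    refine (DFunLike.congr_fun hσ' (m (1 ⊗ₜ b))).trans ?_
    rw [h1, ← hπ, hb, map_zero]
  -- descending the map
  let q : pt str B' ⟶ pt str B := ptHom str B.val
  let eB : B ⊗[A] E ≃ₐ[B] B' := AlgEquiv.ofBijective _ (bijective_lift_comm E B' B.val hm fun _ => rfl)
  haveI : Etale q.left :=
    (HasRingHomProperty.Spec_iff (P := @Etale)).2 (RingHom.etale_algebraMap.2 (Algebra.Etale.of_equiv eB))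
  have hqsurj : ∀ x, x ∈ Set.range q.left := by
    haveI : Module.FaithfullyFlat B B' := Module.FaithfullyFlat.of_linearEquiv _ _ eB.symm.toLinearEquiv
    exact fun x => PrimeSpectrum.comap_surjective_of_faithfullyFlat (A := B) (B := B') x
  obtain ⟨gT, hgT⟩ := AlgSpDescent.exists_glue_etale (F := P) (fun _ : PUnit.{u + 1} => pt str B') (fun _ => q)
    (fun _ => inferInstance) (fun x => ⟨⟨⟩, hqsurj x⟩) (fun _ => gB) (fun _ _ V a b hab => by
      -- pairs over `B` factor through `E ⊗ B'`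
      obtain ⟨x, hx⟩ := exists_toSpecΓ_fac a.left
      obtain ⟨y, hy⟩ := exists_toSpecΓ_fac b.left
      letI : Algebra A Γ(V.left, ⊤) := (x.comp (algebraMap A B')).toAlgebra
      have hxy : ∀ c : B, x (c : B') = y (c : B') := by
        have h := congrArg CommaMorphism.left hab
        change a.left ≫ Spec.map _ = b.left ≫ Spec.map _ at h
        rw [hx, hy, Category.assoc, Category.assoc, ← Spec.map_comp, ← Spec.map_comp] at h
        rw [← CommRingCat.ofHom_comp, ← CommRingCat.ofHom_comp] at h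
        exact fun c => RingHom.congr_fun (toSpecΓ_congr h) c
      let xA : B' →ₐ[A] Γ(V.left, ⊤) := { x with commutes' := fun _ => rfl }
      let yA : B' →ₐ[A] Γ(V.left, ⊤) := { y with
        commutes' := fun r => (hxy (algebraMap A B r)).symm }
      let z : E ⊗[A] B' →ₐ[A] Γ(V.left, ⊤) :=
        Algebra.TensorProduct.lift (xA.comp ((Algebra.ofId E B').restrictScalars A)) yA (fun _ _ => .all _ _)
      have hz1 : z.comp ρA = xA := by
        refine AlgHom.ext fun w => ?_
        obtain ⟨w, rfl⟩ := hm.2 w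
        induction w using TensorProduct.induction_on with
        | zero => simp
        | tmul e c =>
          have h1 : m (e ⊗ₜ c) = algebraMap E B' e * (c : B') := by simp [m]
          rw [h1, AlgHom.comp_apply, map_mul, map_mul, show ρA (algebraMap E B' e) = e ⊗ₜ 1 from ρ.commutes e,
            show ρA (c : B') = 1 ⊗ₜ (c : B') from hBρ c]
          simp only [z, Algebra.TensorProduct.lift_tmul, map_one, mul_one, one_mul, map_mul]
          exact congrArg (_ * ·) (hxy c).symm
        | add u v hu hv => simp only [map_add, hu, hv]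
      let vz : V ⟶ pt str (E ⊗[A] B') := Over.homMk (V.left.toSpecΓ ≫ Spec.map (CommRingCat.ofHom z.toRingHom)) (by
        change _ ≫ Spec.map _ ≫ str = V.hom
        rw [← Over.w a, hx, Category.assoc, ← Spec.map_comp_assoc]
        change _ = (_ ≫ Spec.map _) ≫ Spec.map _ ≫ str
        rw [Category.assoc, ← Spec.map_comp_assoc]
        exact congrArg (fun h => V.left.toSpecΓ ≫ Spec.map (CommRingCat.ofHom h) ≫ str) (RingHom.ext z.commutes))
      have ha : vz ≫ ptHom str ρA = a := Over.OverMorphism.ext (by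
        change (V.left.toSpecΓ ≫ Spec.map _) ≫ Spec.map _ = a.left
        rw [hx, Category.assoc, ← Spec.map_comp]
        exact congrArg (fun h => V.left.toSpecΓ ≫ Spec.map (CommRingCat.ofHom h)) (congrArg AlgHom.toRingHom hz1))
      have hb : vz ≫ ptHom str incB = b := Over.OverMorphism.ext (by
        change (V.left.toSpecΓ ≫ Spec.map _) ≫ Spec.map _ = b.left
        rw [hy, Category.assoc, ← Spec.map_comp]
        exact congrArg (fun h => V.left.toSpecΓ ≫ Spec.map (CommRingCat.ofHom h)) (RingHom.ext fun w => by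
          change z (1 ⊗ₜ w) = y w
          simp [z]
          rfl))
      rw [← ha, ← hb, Functor.map_comp_assoc, Functor.map_comp_assoc, hρ2])
  have hgT' : (yon S).map q ≫ gT = gB := hgT ⟨⟩
  have hgTpr : gT ≫ prT = (yon S).map (ptMap str B) := AlgSpDescent.eq_of_etale_nbhds fun x =>
    ⟨_, q, inferInstance, hqsurj x, by rw [← Category.assoc, hgT', hgB, ← Functor.map_comp, ptHom_ptMap]⟩
  -- the lift
  let σp : Over.mk str ⟶ pt str B := Over.homMk (Spec.map (CommRingCat.ofHom σ₀.toRingHom)) (by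
    change Spec.map _ ≫ Spec.map _ ≫ str = str
    rw [← Spec.map_comp_assoc, ← CommRingCat.ofHom_comp,
      show σ₀.toRingHom.comp (algebraMap A B) = RingHom.id A from RingHom.ext σ₀.commutes,
      CommRingCat.ofHom_id, Spec.map_id, Category.id_comp])
  refine ⟨(yon S).map σp ≫ gT, ?_, ?_⟩
  · have hσp : ptMap str (A ⧸ I) ≫ σp = ptHom str π := Over.OverMorphism.ext ((Spec.map_comp _ _).symm.trans
      (congrArg (fun h => Spec.map (CommRingCat.ofHom h)) (RingHom.ext fun b => hσ₀ b)))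
    rw [← Functor.map_comp_assoc, hσp]
    refine AlgSpDescent.eq_of_etale_nbhds fun x => ⟨_, ptHom str rE, ?_, ?_, ?_⟩
    · letI : Algebra (A ⧸ I) R' := rE.toRingHom.toAlgebra
      exact (HasRingHomProperty.Spec_iff (P := @Etale)).2 (RingHom.etale_algebraMap.2 (etale_quotMap I E).1)
    · letI : Algebra (A ⧸ I) R' := rE.toRingHom.toAlgebra
      haveI : Module.FaithfullyFlat (A ⧸ I) R' := (etale_quotMap I E).2
      exact PrimeSpectrum.comap_surjective_of_faithfullyFlat (A := A ⧸ I) (B := R') x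
    · rw [← Functor.map_comp_assoc, ptHom_comp,
        show rE.comp π = (πB.restrictScalars A).comp B.val from AlgHom.ext hπ, ← ptHom_comp,
        Functor.map_comp_assoc, hgT', hExtB.2]
  · rw [Category.assoc, hgTpr, ← Functor.map_comp, ← (yon S).map_id]
    refine congrArg _ (Over.OverMorphism.ext ?_)
    change Spec.map _ ≫ Spec.map _ = 𝟙 _
    rw [← Spec.map_comp, ← CommRingCat.ofHom_comp,
      show σ₀.toRingHom.comp (algebraMap A B) = RingHom.id A from RingHom.ext σ₀.commutes,
      CommRingCat.ofHom_id, Spec.map_id]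

/-- Lifts exist when there is a faithfully flat étale algebra with a lift to a smooth affine étale chart. -/
theorem exists_lift_of_chart (hI : I ^ 2 = ⊥) {P : Sp S} (prT : P ⟶ (yon S).obj (Over.mk str))
    (s₀ : (yon S).obj (pt str (A ⧸ I)) ⟶ P) (hs₀ : s₀ ≫ prT = (yon S).map (ptMap str (A ⧸ I)))
    {C : Type u} [CommRing C] [Algebra A C] [Algebra.Smooth A C] (p : (yon S).obj (pt str C) ⟶ P)
    (hp : RepWith @Etale p) (hpr : p ≫ prT = (yon S).map (ptMap str C))
    (E : Type u) [CommRing E] [Algebra A E] [Module.FaithfullyFlat A E] [Algebra.Etale A E]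
    (εC₀ : C →ₐ[A] E ⧸ I.map (algebraMap A E))
    (hε : (yon S).map (ptHom str εC₀) ≫ p = (yon S).map (ptHom str
      (Ideal.Quotient.liftₐ I (Algebra.ofId A (E ⧸ I.map (algebraMap A E))) fun a ha =>
        Ideal.Quotient.eq_zero_iff_mem.2 (Ideal.mem_map_of_mem _ ha))) ≫ s₀) :
    ∃ ℓ : (yon S).obj (Over.mk str) ⟶ P,
      (yon S).map (ptMap str (A ⧸ I)) ≫ ℓ = s₀ ∧ ℓ ≫ prT = 𝟙 _ := by
  set R' := E ⧸ I.map (algebraMap A E)
  let rE : (A ⧸ I) →ₐ[A] R' := Ideal.Quotient.liftₐ I (Algebra.ofId A R') fun a ha =>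
    Ideal.Quotient.eq_zero_iff_mem.2 (Ideal.mem_map_of_mem _ ha)
  -- the first order neighbourhood over `E`
  let εC : E ⊗[A] C →ₐ[E] R' := Algebra.TensorProduct.lift (Algebra.ofId E R') εC₀ (fun _ _ => .all _ _)
  have hεC : Function.Surjective εC := fun r => by
    obtain ⟨e, rfl⟩ := Ideal.Quotient.mk_surjective r
    exact ⟨algebraMap E _ e, εC.commutes e⟩
  let B' := (E ⊗[A] C) ⧸ RingHom.ker εC ^ 2
  let πB : B' →ₐ[E] R' := Ideal.Quotient.liftₐ _ εC fun x hx => Ideal.pow_le_self two_ne_zero hx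
  have hπB : Function.Surjective πB := fun r => by
    obtain ⟨x, rfl⟩ := hεC r
    exact ⟨Ideal.Quotient.mk _ x, rfl⟩
  have hπB2 : RingHom.ker πB ^ 2 = ⊥ := by
    rw [pow_two (RingHom.ker πB), eq_bot_iff]
    refine Ideal.mul_le.2 fun x hx y hy => ?_
    obtain ⟨x, rfl⟩ := Ideal.Quotient.mk_surjective x
    obtain ⟨y, rfl⟩ := Ideal.Quotient.mk_surjective y
    rw [Ideal.mem_bot, ← map_mul, Ideal.Quotient.eq_zero_iff_mem, pow_two]
    exact Ideal.mul_mem_mul hx hy
  let cB : C →ₐ[A] B' := ((Ideal.Quotient.mkₐ E (RingHom.ker εC ^ 2)).restrictScalars A).comp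
    Algebra.TensorProduct.includeRight
  have hcB : (πB.restrictScalars A).comp cB = εC₀ := AlgHom.ext fun c => by
    change εC (1 ⊗ₜ c) = εC₀ c
    simp [εC]
  let gB : (yon S).obj (pt str B') ⟶ P := (yon S).map (ptHom str cB) ≫ p
  have hgB : gB ≫ prT = (yon S).map (ptMap str B') := by
    rw [Category.assoc, hpr, ← Functor.map_comp, ptHom_ptMap]
  -- maps extending the given point
  have hExtB : ExtendsPt I prT s₀ (πB.restrictScalars A) rE gB := ⟨hgB, by
    rw [← Functor.map_comp_assoc, ptHom_comp, hcB, hε]⟩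
  have univ : IsUnivNbhd I E prT s₀ πB gB := by
    intro D D₀ _ _ _ _ _ _ _ _ πD hs hK r g hg
    obtain ⟨⟨φC, hφ1, hφ2⟩, huniq⟩ := existsUnique_lift prT p hp hpr (πD.restrictScalars A) hs hK g hg.1
      ((r.restrictScalars A).comp εC₀) (by
        rw [hg.2, ← ptHom_comp, Functor.map_comp_assoc, hε, ← ptHom_comp, Functor.map_comp_assoc])
    constructor
    · let Φ : E ⊗[A] C →ₐ[E] D := Algebra.TensorProduct.lift (Algebra.ofId E D) φC (fun _ _ => .all _ _)
      have hΦ : πD.comp Φ = r.comp εC := Algebra.TensorProduct.ext (algHom_quot_ext_self _ _) (AlgHom.ext fun c => by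
        change πD (Φ (1 ⊗ₜ c)) = r (εC (1 ⊗ₜ c))
        simpa [Φ, εC] using DFunLike.congr_fun hφ1 c)
      have hΦK : ∀ x ∈ RingHom.ker εC ^ 2, Φ x = 0 := by
        intro x hx
        have h1 : RingHom.ker εC ≤ (RingHom.ker πD).comap Φ := fun y hy => by
          rw [Ideal.mem_comap, RingHom.mem_ker]
          change (πD.comp Φ) y = 0
          rw [hΦ, AlgHom.comp_apply, show εC y = 0 from hy, map_zero]
        have h2 := (Ideal.pow_right_mono h1 2).trans (Ideal.le_comap_pow _ 2) hx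
        rw [hK] at h2
        exact h2
      refine ⟨Ideal.Quotient.liftₐ _ Φ hΦK, Ideal.Quotient.algHom_ext E hΦ, ?_⟩
      rw [← hφ2, ← Functor.map_comp_assoc, ptHom_comp]
      refine congrArg (fun ψ => (yon S).map (ptHom str ψ) ≫ p) (AlgHom.ext fun c => ?_)
      change Φ (1 ⊗ₜ c) = φC c
      simp [Φ]
    · intro φ φ' h1 h2 h3
      refine Ideal.Quotient.algHom_ext E (Algebra.TensorProduct.ext (algHom_quot_ext_self _ _) ?_)
      refine huniq ((φ.restrictScalars A).comp cB) ((φ'.restrictScalars A).comp cB)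
        (AlgHom.ext fun c => (DFunLike.congr_fun h1 (cB c)).trans (DFunLike.congr_fun h2 (cB c)).symm) ?_
      refine Eq.trans ?_ (Eq.trans h3 ?_) <;> rw [← Functor.map_comp_assoc, ptHom_comp]
  let IE := I.map (algebraMap A E)
  haveI : Algebra.FinitePresentation (E ⧸ IE) (B' ⧸ IE.map (algebraMap E B')) := by
    exact finitePresentation_quot_sq IE εC hεC
  -- the section over `E`
  have hIE : (I.map (algebraMap A E)) ^ 2 = ⊥ := by rw [← Ideal.map_pow, hI, Ideal.map_bot]
  obtain ⟨σC, hσC⟩ := Algebra.FormallySmooth.comp_surjective E (E ⊗[A] C) _ hIE εC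
  have hσCK : ∀ x ∈ RingHom.ker εC ^ 2, σC x = 0 := by
    intro x hx
    have h1 : RingHom.ker εC ≤ (I.map (algebraMap A E)).comap σC := fun y hy => by
      rw [Ideal.mem_comap, ← Ideal.Quotient.eq_zero_iff_mem]
      exact (DFunLike.congr_fun hσC y).trans hy
    have h2 := (Ideal.pow_right_mono h1 2).trans (Ideal.le_comap_pow _ 2) hx
    rw [hIE] at h2
    exact h2
  let σ' : B' →ₐ[E] E := Ideal.Quotient.liftₐ _ σC hσCK
  have hσ' : (Ideal.Quotient.mkₐ E _).comp σ' = πB := Ideal.Quotient.algHom_ext E hσC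
  exact exists_lift_of_univ hI hs₀ πB hπB hπB2 gB hExtB univ σ' hσ'

end Main

end Groth.Agent.SmoothLift15
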