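import Groth.Agent.Lib.SmoothLift15.SmallExtScheme
import Groth.Agent.Lib.SmoothLift15.Space
import Groth.Agent.Lib.AlgSpace.Points
import Groth.Agent.Lib.AlgSpace.Sub
import Groth.Agent.Lib.AlgSpace.Chart
import Groth.Agent.Lib.AlgSpace.LocP
import Groth.Agent.Lib.AlgSpDecent.Basic

/-!
The small extension criterion of smoothness for algebraic spaces.
-/

set_option autoImplicit false

universe u

open CategoryTheory CategoryTheory.Limits AlgebraicGeometry AlgSp Opposite MorphismProperty TopologicalSpace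
open Groth.Agent.AlgSpace

namespace Groth.Agent.SmoothLift15

open Groth.Agent.AlgSpDescent

variable {S : Scheme.{u}}

/-- The map of spectra of a ring map, over `S`. -/
noncomputable abbrev piHom {B' B : Type u} [CommRing B'] [CommRing B] (π : B' →+* B) (s : Spec (.of B') ⟶ S) :
    Over.mk (Spec.map (CommRingCat.ofHom π) ≫ s) ⟶ Over.mk s :=
  CategoryTheory.Over.homMk (Spec.map (CommRingCat.ofHom π))

theorem ker_sq_of_small {B' B : Type u} [CommRing B'] [CommRing B] [IsLocalRing B'] [Nontrivial B]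
    (π : B' →+* B) (h : ∃ t : B', RingHom.ker π = Ideal.span {t} ∧
      ∀ a ∈ IsLocalRing.maximalIdeal B', a * t = 0) : RingHom.ker π ^ 2 = ⊥ := by
  obtain ⟨t, ht, hk⟩ := h
  rw [ht]
  exact sq_span_singleton_of_kill t hk (ht ▸ RingHom.ker_ne_top π)

/-- Formal smoothness lifts along surjections with square-zero kernel. -/
theorem exists_lift_of_surjective_mor {X Y : Sp S} {g : X ⟶ Y} (hg : IsFormallySmoothMor g) {B' B : Type u}
    [CommRing B'] [CommRing B] (π : B' →+* B) (hπ : Function.Surjective π) (hsq : RingHom.ker π ^ 2 = ⊥)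
    (s : Spec (.of B') ⟶ S) (α : (yon S).obj (Over.mk (Spec.map (CommRingCat.ofHom π) ≫ s)) ⟶ X)
    (β : (yon S).obj (Over.mk s) ⟶ Y) (w : α ≫ g = (yon S).map (piHom π s) ≫ β) :
    ∃ γ : (yon S).obj (Over.mk s) ⟶ X, (yon S).map (piHom π s) ≫ γ = α ∧ γ ≫ g = β := by
  let e : CommRingCat.of (B' ⧸ RingHom.ker π) ≅ CommRingCat.of B :=
    (RingHom.quotientKerEquivOfSurjective hπ).toCommRingCatIso
  have he : CommRingCat.ofHom (Ideal.Quotient.mk (RingHom.ker π)) ≫ e.hom = CommRingCat.ofHom π :=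
    CommRingCat.hom_ext (RingHom.ext fun x => rfl)
  let i₁ : Over.mk (Spec.map (CommRingCat.ofHom π) ≫ s) ⟶
      Over.mk (Spec.map (CommRingCat.ofHom (Ideal.Quotient.mk (RingHom.ker π))) ≫ s) :=
    CategoryTheory.Over.homMk (Spec.map e.hom) (by
      change Spec.map e.hom ≫ Spec.map _ ≫ s = Spec.map _ ≫ s
      rw [← Spec.map_comp_assoc, he])
  let i₂ : Over.mk (Spec.map (CommRingCat.ofHom (Ideal.Quotient.mk (RingHom.ker π))) ≫ s) ⟶
      Over.mk (Spec.map (CommRingCat.ofHom π) ≫ s) :=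
    CategoryTheory.Over.homMk (Spec.map e.inv) (by
      change Spec.map e.inv ≫ Spec.map _ ≫ s = Spec.map _ ≫ s
      rw [← Spec.map_comp_assoc, ← he, Category.assoc, Iso.hom_inv_id, Category.comp_id])
  have h21 : i₂ ≫ piHom π s = piHom (Ideal.Quotient.mk (RingHom.ker π)) s := by
    refine Over.OverMorphism.ext ?_
    change Spec.map e.inv ≫ Spec.map _ = Spec.map _
    rw [← Spec.map_comp, ← he, Category.assoc, Iso.hom_inv_id, Category.comp_id]
  have h12 : i₁ ≫ i₂ = 𝟙 _ := Over.OverMorphism.ext (by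
    change Spec.map e.hom ≫ Spec.map e.inv = 𝟙 _
    rw [← Spec.map_comp, Iso.inv_hom_id, Spec.map_id])
  have h1 : i₁ ≫ piHom (Ideal.Quotient.mk (RingHom.ker π)) s = piHom π s :=
    Over.OverMorphism.ext ((Spec.map_comp _ _).symm.trans (congrArg Spec.map he))
  obtain ⟨γ, hγ1, hγ2⟩ := hg ⟨B', RingHom.ker π, hsq, s, (yon S).map i₂ ≫ α, β, by
    rw [Category.assoc, w, ← Functor.map_comp_assoc, h21]⟩
  refine ⟨γ, ?_, hγ2⟩
  rw [← h1, Functor.map_comp, Category.assoc]
  refine (congrArg ((yon S).map i₁ ≫ ·) hγ1).trans ?_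
  rw [← Functor.map_comp_assoc, h12, (yon S).map_id, Category.id_comp]

/-- A local point landing in an open subspace at its closed point factors through it. -/
theorem exists_factor_local {X' X : Sp S} {j : X' ⟶ X} (hj : RepWith @IsOpenImmersion j) {B : Type u} [CommRing B]
    [IsLocalRing B] {str : Spec (.of B) ⟶ S} (α : (yon S).obj (Over.mk str) ⟶ X)
    (h : Points.ofPt α (IsLocalRing.closedPoint B) ∈ Set.range (Points.map j)) :
    ∃ g : (yon S).obj (Over.mk str) ⟶ X', g ≫ j = α := by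
  refine exists_factor_of_range hj α ?_
  rintro _ ⟨y, rfl⟩
  obtain ⟨t, rfl⟩ := (Points.schemeEquiv (Over.mk str)).surjective y
  have hopen := Points.isOpen_iff.1 (isOpen_range_map_of_openImmersion hj) _ α
  have := (IsLocalRing.specializes_closedPoint (R := B) t).mem_open hopen h
  exact (Points.ofPt_eq_map_ofScheme α t) ▸ this

/-- In a chart diagram, lifting of small extensions along the morphism of spaces gives it along the chart. -/
theorem smallLiftsPt_chart {X Y : Sp S} (hY : IsAlgSpace Y) {f : X ⟶ Y} {U V : Over S} {a : (yon S).obj U ⟶ X}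
    {b : (yon S).obj V ⟶ Y} {h : U ⟶ V} (ha : RepWith @Etale a) (hb : RepWith @Etale b)
    (w : a ≫ f = (yon S).map h ≫ b) (u : U.left) (P : Prop)
    (H : ∀ (A : Type u) [CommRing A] [IsLocalRing A] [IsArtinianRing A] (t : A),
      (∀ c ∈ IsLocalRing.maximalIdeal A, c * t = 0) → ∀ [IsLocalRing (A ⧸ Ideal.span {t})] (s : Spec (.of A) ⟶ S)
      (α : (yon S).obj (Over.mk (Spec.map (CommRingCat.ofHom (Ideal.Quotient.mk (Ideal.span {t}))) ≫ s)) ⟶ X)
      (β : (yon S).obj (Over.mk s) ⟶ Y),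
      Points.ofPt α (IsLocalRing.closedPoint (A ⧸ Ideal.span {t})) = Points.ofPt a u →
      (P → LocP @LocallyOfFiniteType β) →
      α ≫ f = (yon S).map (piHom (Ideal.Quotient.mk (Ideal.span {t})) s) ≫ β →
      ∃ γ : (yon S).obj (Over.mk s) ⟶ X,
        (yon S).map (piHom (Ideal.Quotient.mk (Ideal.span {t})) s) ≫ γ = α ∧ γ ≫ f = β) :
    SmallLiftsPt h.left u P := by
  intro A _ _ _ t ht _ α₀ β₀ hα hw hP
  set π := Ideal.Quotient.mk (Ideal.span {t})
  let s := β₀ ≫ V.hom
  let β₁ : Over.mk s ⟶ V := CategoryTheory.Over.homMk β₀ rfl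
  let α₁ : Over.mk (Spec.map (CommRingCat.ofHom π) ≫ s) ⟶ U := CategoryTheory.Over.homMk α₀ (by
    change α₀ ≫ U.hom = Spec.map _ ≫ β₀ ≫ V.hom
    rw [← Over.w h, reassoc_of% hw])
  have hw₁ : α₁ ≫ h = piHom π s ≫ β₁ := Over.OverMorphism.ext hw
  have hx : Points.ofPt ((yon S).map α₁ ≫ a) (IsLocalRing.closedPoint (A ⧸ Ideal.span {t})) = Points.ofPt a u := by
    rw [AlgSpDecent.ofPt_map_comp]
    exact congrArg (Points.ofPt a) hα
  have hLFT : P → LocP @LocallyOfFiniteType ((yon S).map β₁ ≫ b) := fun hp => by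
    have := etaleLocal_of_cases (P := @LocallyOfFiniteType) (Or.inl rfl)
    exact locP_of_one_chart (𝟙 _) b β₁ (repWith_id @Etale _) (repWith_id @Surjective _) hb
      (Category.id_comp _) (hP hp)
  obtain ⟨γ, hγ1, hγ2⟩ := H A t ht s ((yon S).map α₁ ≫ a) ((yon S).map β₁ ≫ b) hx hLFT (by
    rw [Category.assoc, w, ← Functor.map_comp_assoc, hw₁, Functor.map_comp, Category.assoc])
  have hne : Ideal.span {t} ≠ ⊤ := fun htop =>
    absurd (Ideal.Quotient.nontrivial_iff.1 (inferInstance : Nontrivial (A ⧸ Ideal.span {t}))) (not_not.2 htop)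
  have hsq := sq_span_singleton_of_kill t ht hne
  obtain ⟨l, ⟨hl1, hl2⟩, -⟩ := formallyEtale_of_etale ha ⟨A, Ideal.span {t}, hsq, s, (yon S).map α₁, γ, hγ1.symm⟩
  obtain ⟨L, rfl⟩ := (yon S).map_surjective l
  have hlh : L ≫ h = β₁ := by
    refine (yon S).map_injective ((formallyEtale_iff.1 (formallyEtale_of_etale hb)).2
      ⟨A, Ideal.span {t}, hsq, s, (yon S).map (piHom π s ≫ β₁), (yon S).map β₁ ≫ b, ?_⟩ _ _ ?_ ?_ ?_ rfl)
    · rw [Functor.map_comp, Category.assoc]
    · change (yon S).map (piHom π s) ≫ (yon S).map (L ≫ h) = (yon S).map (piHom π s ≫ β₁)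
      rw [Functor.map_comp, ← hw₁, Functor.map_comp]
      exact (Category.assoc _ _ _).symm.trans (congrArg (· ≫ (yon S).map h) hl1)
    · change (yon S).map (L ≫ h) ≫ b = (yon S).map β₁ ≫ b
      rw [Functor.map_comp, Category.assoc, ← w]
      exact (Category.assoc _ _ _).symm.trans ((congrArg (· ≫ f) hl2).trans hγ2)
    · change (yon S).map (piHom π s) ≫ (yon S).map β₁ = (yon S).map (piHom π s ≫ β₁)
      rw [Functor.map_comp]
  exact ⟨L.left, congrArg CommaMorphism.left ((yon S).map_injective ((Functor.map_comp _ _ _).trans hl1)),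
    congrArg CommaMorphism.left hlh⟩

/-- A chart diagram through a point with locally noetherian target. -/
theorem exists_noetherian_chart {X Y : Sp S} (hX : IsAlgSpace X) (hY : IsAlgSpace Y) (f : X ⟶ Y)
    (hN : IsLocNoethSp Y) :
    ∃ (U V : Over S) (a : (yon S).obj U ⟶ X) (b : (yon S).obj V ⟶ Y) (h : U ⟶ V),
      RepWith @Etale a ∧ RepWith @Surjective a ∧ RepWith @Etale b ∧ IsLocallyNoetherian V.left ∧
      a ≫ f = (yon S).map h ≫ b := by
  obtain ⟨V, b, hbe, hbs, hVN⟩ := hN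
  obtain ⟨U, a, h, hae, has, w⟩ := exists_chart_over hX hY f b hbe hbs
  exact ⟨U, V, a, b, h, hae, has, hbe, hVN, w⟩

end Groth.Agent.SmoothLift15
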